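import Cfsg.Agent.Lib.AbelPSL.Setting
import Cfsg.Agent.Lib.BenderQ.Bridge
import Cfsg.Agent.Lib.Small.LowMain

/-!
A proper overgroup of `C(t)` in which all involutions of the Sylow 2-subgroup are conjugate is
strongly embedded, so by Bender's theorem the Sylow 2-subgroup is normal in it; then `q = 3` and the
group would have order 1512.
-/

set_option autoImplicit false
set_option linter.unusedSectionVars false

open Subgroup

namespace CfsgLib.AbelPSL

universe u

variable {G : Type u} [Group G] [Finite G] [IsSimpleGroup G] {t : G} {E E₀ : Subgroup G}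
  {F : Type*} [Field F] [Fintype F]

namespace Setting

variable (h : Setting t E E₀ F)
include h

theorem card_cent : Nat.card (centralizer ({t} : Set G)) = 2 * Nat.card E := by
  let f : Bool × E → centralizer ({t} : Set G) := fun p =>
    ⟨bif p.1 then t * p.2 else p.2, by
      obtain ⟨b, e⟩ := p
      cases b
      · exact h.E_le e.2
      · exact mul_mem (h.mem_cent.2 rfl) (h.E_le e.2)⟩
  have hf : Function.Bijective f := by
    constructor
    · rintro ⟨b, e⟩ ⟨b', e'⟩ hh
      have hh' : (bif b then t * (e : G) else e) = bif b' then t * (e' : G) else e' :=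
        congrArg Subtype.val hh
      cases b <;> cases b'
      · exact Prod.ext rfl (Subtype.ext hh')
      · refine absurd ?_ h.t_notMem
        change (e : G) = t * e' at hh'
        rw [show t = (e : G) * (e' : G)⁻¹ by rw [hh', mul_inv_cancel_right]]
        exact mul_mem e.2 (inv_mem e'.2)
      · refine absurd ?_ h.t_notMem
        change t * (e : G) = e' at hh'
        rw [show t = (e' : G) * (e : G)⁻¹ by rw [← hh', mul_inv_cancel_right]]
        exact mul_mem e'.2 (inv_mem e.2)
      · exact Prod.ext rfl (Subtype.ext (mul_left_cancel hh'))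
    · rintro ⟨x, hx⟩
      obtain ⟨e, he, rfl | rfl⟩ := h.cases_cent (h.mem_cent.1 hx)
      · exact ⟨(false, ⟨_, he⟩), rfl⟩
      · exact ⟨(true, ⟨_, he⟩), rfl⟩
  rw [← Nat.card_eq_of_bijective f hf, Nat.card_prod, Nat.card_eq_fintype_card (α := Bool),
    Fintype.card_bool]

theorem false_of_fused (hB : CfsgLib.BenderQ.BenderKernel.{u}) (hna : ¬ IsMulCommutative G)
    {H : Subgroup G} (hH : centralizer ({t} : Set G) ≤ H) (hne : H ≠ ⊤)
    (hfus : ∃ g ∈ H, (g * t * g⁻¹) * t = t * (g * t * g⁻¹) ∧ g * t * g⁻¹ ≠ t) : False := by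
  haveI : Fact (Nat.Prime 2) := ⟨Nat.prime_two⟩
  obtain ⟨S, a, b, r, f⟩ := h.exists_frame
  have htS := h.t_mem f
  have hSC : ∀ x ∈ (S : Subgroup G), x * t = t * x := fun x hx => h.comm _ S.isPGroup' x hx t htS
  have hSH : (S : Subgroup G) ≤ H := fun x hx => hH (h.mem_cent.2 (hSC x hx))
  have hSC' : (S : Subgroup G) ≤ centralizer ({t} : Set G) := fun x hx => h.mem_cent.2 (hSC x hx)
  -- conjugate the second involution into `S`
  have hfus' : ∃ g ∈ H, g * t * g⁻¹ ∈ (S : Subgroup G) ∧ g * t * g⁻¹ ≠ t := by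
    obtain ⟨g, hg, hcm, hgne⟩ := hfus
    have hp : IsPGroup 2 (Subgroup.closure ({t, g * t * g⁻¹} : Set G)) := by
      refine DGroup.closure_isPGroup ?_ ?_
      · rintro x (rfl | rfl) y (rfl | rfl)
        exacts [rfl, hcm.symm, hcm, rfl]
      · rintro x (rfl | rfl)
        · exact h.tt
        · rw [show g * t * g⁻¹ * (g * t * g⁻¹) = g * (t * t) * g⁻¹ by group, h.tt]; group
    have hle : Subgroup.closure ({t, g * t * g⁻¹} : Set G) ≤ centralizer ({t} : Set G) := by
      rw [Subgroup.closure_le]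
      rintro x (rfl | rfl)
      exacts [h.mem_cent.2 rfl, h.mem_cent.2 hcm]
    have hp' : IsPGroup 2 ((Subgroup.closure ({t, g * t * g⁻¹} : Set G)).subgroupOf
        (centralizer ({t} : Set G))) :=
      hp.of_equiv (Subgroup.subgroupOfEquivOfLe hle).symm
    obtain ⟨T, hT⟩ := hp'.exists_le_sylow
    obtain ⟨c, rfl⟩ := MulAction.exists_smul_eq (centralizer ({t} : Set G)) (S.subtype hSC') T
    obtain ⟨w, hw, hwe⟩ := hT (show (⟨g * t * g⁻¹, h.mem_cent.2 hcm⟩ : centralizer ({t} : Set G)) ∈ _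
      from subset_closure (Or.inr rfl))
    have hwe' : (c : G) * w * (c : G)⁻¹ = g * t * g⁻¹ := congrArg Subtype.val hwe
    have hct : (c : G) * t = t * c := h.mem_cent.1 c.2
    refine ⟨(c : G)⁻¹ * g, mul_mem (inv_mem (hH c.2)) hg, ?_, ?_⟩
    · rw [show (c : G)⁻¹ * g * t * ((c : G)⁻¹ * g)⁻¹ = (c : G)⁻¹ * (g * t * g⁻¹) * c by group, ← hwe']
      have hwS : (w : G) ∈ (S : Subgroup G) := hw
      simpa [mul_assoc] using hwS
    · intro e
      apply hgne
      rw [show g * t * g⁻¹ = (c : G) * ((c : G)⁻¹ * g * t * ((c : G)⁻¹ * g)⁻¹) * (c : G)⁻¹ by group, e,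
        hct, mul_inv_cancel_right]
  have hfuse := h.fusion f hH hfus'
  -- every involution of `H` is `H`-conjugate to `t`
  have hconj : ∀ x ∈ H, x * x = 1 → x ≠ 1 → ∃ g ∈ H, g * t * g⁻¹ = x := by
    intro x hx hxx hx1
    have hp : IsPGroup 2 (Subgroup.closure ({(⟨x, hx⟩ : H)} : Set H)) :=
      DGroup.closure_isPGroup (by rintro y rfl z rfl; rfl) (by rintro y rfl; exact Subtype.ext hxx)
    obtain ⟨T, hT⟩ := hp.exists_le_sylow
    obtain ⟨c, rfl⟩ := MulAction.exists_smul_eq H (S.subtype hSH) T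
    obtain ⟨w, hw, hwe⟩ := hT (subset_closure rfl)
    have hwe' : (c : G) * w * (c : G)⁻¹ = x := congrArg Subtype.val hwe
    obtain ⟨k, hk, hkw⟩ := hfuse w hw fun e => hx1 (by rw [← hwe', e]; group)
    exact ⟨c * k, mul_mem c.2 hk, by rw [← hwe', ← hkw]; group⟩
  have hse : Cfsg.IsStronglyEmbedded H := by
    refine (CfsgLib.Involutions.isStronglyEmbedded_iff_fusion hne
      (CfsgLib.Involutions.even_card_of_involution_mem (hSH htS) h.inv)).2 ⟨fun x hx hx2 c hc => ?_,
      fun x hx y hy hx2 hy2 _ => ?_⟩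
    · rw [Involutions.orderOf_eq_two_iff_mul] at hx2
      obtain ⟨g, hg, rfl⟩ := hconj x hx hx2.2 hx2.1
      rw [mem_centralizer_singleton_iff] at hc
      have h1 : g⁻¹ * c * g ∈ H := hH (h.mem_cent.2 (by
        calc g⁻¹ * c * g * t = g⁻¹ * (c * (g * t * g⁻¹)) * g := by group
          _ = g⁻¹ * ((g * t * g⁻¹) * c) * g := by rw [hc]
          _ = t * (g⁻¹ * c * g) := by group))
      simpa [mul_assoc] using mul_mem (mul_mem hg h1) (inv_mem hg)
    · rw [Involutions.orderOf_eq_two_iff_mul] at hx2 hy2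
      obtain ⟨g, hg, rfl⟩ := hconj x hx hx2.2 hx2.1
      obtain ⟨k, hk, rfl⟩ := hconj y hy hy2.2 hy2.1
      exact ⟨k * g⁻¹, mul_mem hk (inv_mem hg), by group⟩
  obtain ⟨Q, hQH, hQn, htr, hfree, hQ2, -, S', hS'⟩ :=
    CfsgLib.BenderQ.exists_regular_normal hB (CfsgLib.BenderQ.exists_noncomm hna) hse
  -- `S` is the normal Sylow 2-subgroup of `H`
  have hQS : Q = S := by
    have e1 : S'.subtype (hS'.le.trans hQH) = S.subtype hSH := by
      obtain ⟨c, hc⟩ := MulAction.exists_smul_eq H (S'.subtype (hS'.le.trans hQH)) (S.subtype hSH)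
      rw [← hc]
      refine (Sylow.smul_eq_iff_mem_normalizer.2 ?_).symm
      have hn : (↑(S'.subtype (hS'.le.trans hQH)) : Subgroup H) = Q.subgroupOf H :=
        Subgroup.ext fun x => by show (x : G) ∈ (S' : Subgroup G) ↔ (x : G) ∈ Q; rw [hS']
      show c ∈ normalizer ((↑(S'.subtype (hS'.le.trans hQH)) : Subgroup H) : Set H)
      rw [hn]
      exact (Subgroup.normalizer_eq_top_iff.2 hQn).ge (Subgroup.mem_top c)
    rw [← hS', Sylow.subtype_injective e1]
  have hSn : ∀ g ∈ H, ∀ x ∈ (S : Subgroup G), g * x * g⁻¹ ∈ (S : Subgroup G) := by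
    intro g hg x hx
    rw [← hQS] at hx ⊢
    exact hQn.conj_mem ⟨x, hQH hx⟩ hx ⟨g, hg⟩
  have hinvS : ∀ x ∈ H, x * x = 1 → x ∈ (S : Subgroup G) := by
    intro x hx hxx
    rcases eq_or_ne x 1 with rfl | hx1
    · exact one_mem _
    obtain ⟨g, hg, rfl⟩ := hconj x hx hxx hx1
    exact hSn g hg t htS
  have hinvV : ∀ x ∈ E₀, x * x = 1 → x = 1 ∨ x = a ∨ x = b ∨ x = a * b := by
    intro x hx hxx
    obtain ⟨e, he, hxe⟩ := (f.mem_iff x).1 (hinvS x (hH (h.E_le (h.le hx))) hxx)
    rcases hxe with rfl | rfl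
    · exact he
    · refine absurd ?_ h.t_notMem
      have heE : e ∈ E := by
        rcases he with rfl | rfl | rfl | rfl
        exacts [one_mem _, h.le f.ha, h.le f.hb, h.le (mul_mem f.ha f.hb)]
      simpa using mul_mem (h.le hx) (inv_mem heE)
  have hF : Fintype.card F = 3 := by
    refine h.overE.normal_four_iff.2 fun x hx u v hu hv huu hvv huv hu1 hv1 hne' => ?_
    have hu' := hinvV u hu (congrArg Subtype.val huu)
    have hv' := hinvV v hv (congrArg Subtype.val hvv)
    have hxu : (x : G) * u * (x : G)⁻¹ ∈ E₀ := mul_mem (mul_mem hx hu) (inv_mem hx)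
    have hu2 : (u : G) * u = 1 := congrArg Subtype.val huu
    have hw := hinvV _ hxu (by
      rw [show (x : G) * u * (x : G)⁻¹ * ((x : G) * u * (x : G)⁻¹) = x * ((u : G) * u) * (x : G)⁻¹ by group,
        hu2]
      simp)
    have hu1' : (u : G) ≠ 1 := fun e => hu1 (Subtype.ext e)
    have hv1' : (v : G) ≠ 1 := fun e => hv1 (Subtype.ext e)
    have hne'' : (u : G) ≠ v := fun e => hne' (Subtype.ext e)
    have hw1 : (x : G) * u * (x : G)⁻¹ ≠ 1 := fun e => hu1' (conj_eq_one_iff.1 e)
    have key : (x : G) * u * (x : G)⁻¹ = u ∨ (x : G) * u * (x : G)⁻¹ = v ∨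
        (x : G) * u * (x : G)⁻¹ = u * v := by
      obtain ⟨W, hW, hWiff⟩ := exists_four_group f.aa f.bb f.ab f.a1 f.b1 f.ne
      obtain ⟨W', hW', hWiff'⟩ := exists_four_group (congrArg Subtype.val huu : (u : G) * u = 1)
        (congrArg Subtype.val hvv : (v : G) * v = 1) (congrArg Subtype.val huv : (u : G) * v = v * u)
        hu1' hv1' hne''
      have hle : W' ≤ W := fun z hz => by
        rcases (hWiff' z).1 hz with rfl | rfl | rfl | rfl
        exacts [one_mem _, (hWiff _).2 hu', (hWiff _).2 hv', mul_mem ((hWiff _).2 hu') ((hWiff _).2 hv')]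
      have heq : W' = W := Subgroup.eq_of_le_of_card_ge hle (by rw [hW.card_four, hW'.card_four])
      exact ((hWiff' _).1 (heq.symm ▸ (hWiff _).2 hw)).resolve_left hw1
    rcases key with e | e | e
    · exact Or.inl (Subtype.ext e)
    · exact Or.inr (Or.inl (Subtype.ext e))
    · exact Or.inr (Or.inr (Subtype.ext e))
  have hcardE : Nat.card E = 12 := h.overE.card_of_three hF
  have hC : Nat.card (centralizer ({t} : Set G)) = 24 := by rw [h.card_cent, hcardE]
  -- `|S| = 8`
  have hS8 : Nat.card (S : Subgroup G) = 8 := by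
    obtain ⟨k, hk⟩ := IsPGroup.iff_card.1 S.isPGroup'
    have h1 : 2 ^ k ∣ 24 := hk ▸ hC ▸ Subgroup.card_dvd_of_le hSC'
    have h2 : ¬ 2 ∣ 24 / 2 ^ k := by
      have h3 := (S.subtype hSC').not_dvd_index' Subgroup.index_ne_zero_of_finite
      have h4 := (S : Subgroup G).subgroupOf (centralizer ({t} : Set G)) |>.card_mul_index
      rw [Nat.card_congr (Subgroup.subgroupOfEquivOfLe hSC').toEquiv, hk, hC] at h4
      intro h5
      refine h3 ?_
      show 2 ∣ ((S : Subgroup G).subgroupOf (centralizer ({t} : Set G))).index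
      rwa [← h4, Nat.mul_div_cancel_left _ (by positivity)] at h5
    have hk8 : k ≤ 4 := by
      by_contra hk4
      have := Nat.le_of_dvd (by norm_num) h1
      have := Nat.pow_le_pow_right (n := 2) (by norm_num) (show 5 ≤ k by omega)
      omega
    interval_cases k <;> omega
  -- `|H| = 168`
  have hH168 : Nat.card H = 7 * 24 := by
    letI : MulAction H G := MulAction.compHom G (MulAut.conj.comp H.subtype)
    have hact : ∀ (m : H) (x : G), m • x = (m : G) * x * (m : G)⁻¹ := fun m x => rfl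
    have horb : MulAction.orbit H t = ((S : Subgroup G) : Set G) \ {1} := by
      refine Set.Subset.antisymm ?_ ?_
      · rintro x ⟨m, rfl⟩
        show m • t ∈ _
        rw [hact]
        exact ⟨hSn m m.2 t htS, fun e => h.t1 (conj_eq_one_iff.1 e)⟩
      · rintro x ⟨hx, hx1⟩
        obtain ⟨g, hg, rfl⟩ := hfuse x hx hx1
        exact ⟨⟨g, hg⟩, hact _ _⟩
    have hst : MulAction.stabilizer H t = (centralizer ({t} : Set G)).subgroupOf H := by
      ext m
      rw [MulAction.mem_stabilizer_iff, hact, mem_subgroupOf, h.mem_cent, mul_inv_eq_iff_eq_mul]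
    have := (MulAction.stabilizer H t).card_mul_index
    rw [MulAction.index_stabilizer, horb, hst,
      Nat.card_congr (Subgroup.subgroupOfEquivOfLe hH).toEquiv, hC,
      Set.ncard_diff_singleton_of_mem (one_mem (S : Subgroup G)),
      ← Nat.card_coe_set_eq, show Nat.card ↥((S : Subgroup G) : Set G) = 8 from hS8] at this
    omega
  -- `|G| = 9 * |H|`
  have hidx : H.index = 9 := by
    have hg : ∃ g : G, g ∉ H := by
      by_contra hc
      push Not at hc
      exact hne (eq_top_iff.2 fun g _ => hc g)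
    obtain ⟨g₁, hg₁⟩ := hg
    let φ : Q → {x : G ⧸ H // x ≠ ((1 : G) : G ⧸ H)} := fun u =>
      ⟨(((u : G) * g₁ : G) : G ⧸ H), fun e => hg₁ (by
        have h1 := QuotientGroup.eq.1 e
        rw [mul_one] at h1
        have h2 := mul_mem (inv_mem (hQH u.2)) (inv_mem h1)
        simpa using h2)⟩
    have hφ : Function.Bijective φ := by
      constructor
      · intro u v e
        have h1 := QuotientGroup.eq.1 (congrArg Subtype.val e)
        have h2 := hfree g₁ hg₁ ((u : G)⁻¹ * v) (mul_mem (inv_mem u.2) v.2)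
          (by simpa [mul_assoc] using h1)
        exact Subtype.ext (inv_mul_eq_one.1 h2)
      · rintro ⟨x, hx⟩
        obtain ⟨g₂, rfl⟩ := QuotientGroup.mk_surjective x
        have hg₂ : g₂ ∉ H := fun e => hx (QuotientGroup.eq.2 (by simpa using inv_mem e))
        obtain ⟨u, hu, huH⟩ := htr g₁ g₂ hg₁ hg₂
        exact ⟨⟨u, hu⟩, Subtype.ext (QuotientGroup.eq.2 (by
          have := inv_mem huH
          simpa [mul_assoc] using this))⟩
    haveI : Fintype (G ⧸ H) := Fintype.ofFinite _
    classical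
    have h8 : Nat.card {x : G ⧸ H // x ≠ ((1 : G) : G ⧸ H)} = 8 := by
      rw [← Nat.card_eq_of_bijective φ hφ, hQS, hS8]
    have : 0 < Fintype.card (G ⧸ H) := Fintype.card_pos
    rw [Nat.card_eq_fintype_card, Fintype.card_subtype_compl, Fintype.card_subtype_eq] at h8
    rw [Subgroup.index_eq_card, Nat.card_eq_fintype_card]
    omega
  have hG := H.card_mul_index
  rw [hH168, hidx] at hG
  rcases CfsgLib.Small.Low.card_mem_mid (G := G) hna (by omega) (by omega) with e | e | e <;> omega

end Setting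

end CfsgLib.AbelPSL
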