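import Cfsg.Agent.Lib.AbelPSL.Setting
import Cfsg.Agent.Lib.Involutions.BrauerSuzuki
import Cfsg.Agent.Lib.PCore.Basic
import Mathlib.GroupTheory.FixedPointFree

/-!
A proper overgroup of `C(t)` in which `t` is isolated is `C(t)`: by the Z*-theorem `t` inverts its
odd core, and the torus facts in the centralisers of the involutions leave no room for such a core.
-/

set_option autoImplicit false
set_option linter.unusedSectionVars false

open Subgroup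

namespace CfsgLib.AbelPSL

universe u

variable {G : Type u} [Group G] [Finite G] {t : G} {E E₀ : Subgroup G}
  {F : Type*} [Field F] [Fintype F]

theorem eq_one_of_odd_of_sq {x : G} (ho : Odd (orderOf x)) (h : x * x = 1) : x = 1 := by
  rw [← orderOf_eq_one_iff]
  exact Nat.eq_one_of_dvd_coprimes (Nat.coprime_two_left.2 ho)
    (orderOf_dvd_of_pow_eq_one (by rw [pow_two]; exact h)) dvd_rfl

theorem eq_one_of_inverted {x w : G} (ho : Odd (orderOf x)) (hi : w * x * w⁻¹ = x⁻¹)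
    (hc : x * w = w * x) : x = 1 :=
  eq_one_of_odd_of_sq ho (mul_eq_one_iff_eq_inv.2 (by rw [← hi, ← hc, mul_inv_cancel_right]))

namespace Setting

variable [IsSimpleGroup G] (h : Setting t E E₀ F)
include h

theorem pull_mem (hna : ¬ IsMulCommutative G) {y v : G} (hv : v * v = 1) (hv1 : v ≠ 1)
    (hyv : y * v = v * y) (hvt : v * t = t * v) (hi : t * y * t⁻¹ = y⁻¹) (ho : Odd (orderOf y)) :
    ∃ p : G, p * t * p⁻¹ = v ∧ p⁻¹ * y * p ∈ E₀ := by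
  obtain ⟨p, hp⟩ := h.exists_conj hna hv hv1
  refine ⟨p, hp, h.mem_E₀_of_inverted (w := p⁻¹ * t * p) ?_ ?_ ?_ ?_ ?_⟩
  · have e : p * t = v * p := by rw [← hp, inv_mul_cancel_right]
    calc p⁻¹ * y * p * t = p⁻¹ * y * (p * t) := by group
      _ = p⁻¹ * y * (v * p) := by rw [e]
      _ = p⁻¹ * (y * v) * p := by group
      _ = p⁻¹ * (v * y) * p := by rw [hyv]
      _ = t * (p⁻¹ * y * p) := by rw [← hp]; group
  · rw [show p⁻¹ * y * p = MulAut.conj p⁻¹ y by simp, MulEquiv.orderOf_eq]; exact ho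
  · calc p⁻¹ * t * p * t = p⁻¹ * t * (p * t * p⁻¹) * p := by group
      _ = p⁻¹ * (t * v) * p := by rw [hp]; group
      _ = p⁻¹ * (v * t) * p := by rw [hvt]
      _ = t * (p⁻¹ * t * p) := by rw [← hp]; group
  · calc p⁻¹ * t * p * (p⁻¹ * t * p) = p⁻¹ * (t * t) * p := by group
      _ = 1 := by rw [h.tt]; group
  · calc p⁻¹ * t * p * (p⁻¹ * y * p) * (p⁻¹ * t * p)⁻¹ = p⁻¹ * (t * y * t⁻¹) * p := by group
      _ = (p⁻¹ * y * p)⁻¹ := by rw [hi]; group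

/-- What commutes with an involution `v` and an odd element inverted by `t` commutes with the
involutions commuting with both. -/
theorem commute_key (hna : ¬ IsMulCommutative G) {y v w x : G} (hv : v * v = 1) (hv1 : v ≠ 1)
    (hyv : y * v = v * y) (hvt : v * t = t * v) (hi : t * y * t⁻¹ = y⁻¹) (ho : Odd (orderOf y))
    (hy1 : y ≠ 1) (hw : w * w = 1) (hwv : w * v = v * w) (hyw : y * w = w * y)
    (hxv : x * v = v * x) (hxy : x * y = y * x) : x * w = w * x := by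
  obtain ⟨p, hp, hmem⟩ := h.pull_mem hna hv hv1 hyv hvt hi ho
  set c := MulAut.conj p⁻¹ with hc
  have hcv : c v = t := by rw [hc, MulAut.conj_apply, ← hp]; group
  have key := h.commute_of_commute (y := c y) (w := c w) (x := c x)
    (by rw [hc, MulAut.conj_apply, inv_inv]; exact hmem) ((map_ne_one_iff c c.injective).2 hy1)
    (by rw [MulEquiv.orderOf_eq]; exact ho) (by rw [← hcv, ← map_mul, ← map_mul, hwv])
    (by rw [← map_mul, hw, map_one]) (by rw [← map_mul, ← map_mul, hyw])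
    (by rw [← hcv, ← map_mul, ← map_mul, hxv]) (by rw [← map_mul, ← map_mul, hxy])
  exact c.injective (by rw [map_mul, map_mul]; exact key)

/-- No nontrivial abelian subgroup of odd order inverted by `t` is normalised by `C(t)`. -/
theorem inverted_eq_bot (hna : ¬ IsMulCommutative G) {O : Subgroup G} (ho : Odd (Nat.card O))
    (hinv : ∀ x ∈ O, t * x * t⁻¹ = x⁻¹) (hcomm : ∀ x ∈ O, ∀ y ∈ O, x * y = y * x)
    (hnorm : ∀ g : G, g * t = t * g → ∀ x ∈ O, g * x * g⁻¹ ∈ O) : O = ⊥ := by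
  obtain ⟨S, a, b, r, f⟩ := h.exists_frame
  have hodd : ∀ x ∈ O, Odd (orderOf x) := fun x hx => ho.of_dvd_nat (orderOf_dvd_natCard _ hx)
  have ht : ∀ e ∈ E₀, t * e = e * t := fun e he => h.te (h.le he)
  have hEn : ∀ e ∈ E₀, ∀ x ∈ O, e * x * e⁻¹ ∈ O := fun e he => hnorm e (ht e he).symm
  -- the four group centralises `O`
  have key : ∀ e₁ e₂ : G, (e₁ = a ∧ e₂ = b ∨ e₁ = b ∧ e₂ = a * b ∨ e₁ = a * b ∧ e₂ = a) →
      ∀ y ∈ O, y ≠ 1 → y * e₁ = e₁ * y → e₂ * y * e₂⁻¹ ≠ y⁻¹ := by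
    intro e₁ e₂ he y hy hy1 hc hiv
    have hab' : a * b * (a * b) = 1 := by
      rw [(show Commute b a from f.ab.symm).mul_mul_mul_comm, f.aa, f.bb, one_mul]
    obtain ⟨h1, h2, h11, h22, h12, hr1, hr2⟩ : e₁ ∈ E₀ ∧ e₂ ∈ E₀ ∧ e₁ * e₁ = 1 ∧ e₂ * e₂ = 1 ∧
        e₁ * e₂ = e₂ * e₁ ∧ r * e₁ * r⁻¹ = e₂ ∧ r * e₂ * r⁻¹ = e₁ * e₂ := by
      have r3 : r * (a * b) * r⁻¹ = a := by
        rw [show r * (a * b) * r⁻¹ = (r * a * r⁻¹) * (r * b * r⁻¹) by group, f.ra, f.rb, f.ab,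
          ← mul_assoc, f.bb, one_mul]
      rcases he with ⟨rfl, rfl⟩ | ⟨rfl, rfl⟩ | ⟨rfl, rfl⟩
      · exact ⟨f.ha, f.hb, f.aa, f.bb, f.ab, f.ra, f.rb⟩
      · exact ⟨f.hb, mul_mem f.ha f.hb, f.bb, hab', by rw [← mul_assoc, ← f.ab], f.rb,
          by rw [r3, f.ab, ← mul_assoc, f.bb, one_mul]⟩
      · exact ⟨mul_mem f.ha f.hb, f.ha, hab', f.aa, by rw [mul_assoc, ← f.ab], r3,
          by rw [f.ra, f.ab, mul_assoc, f.aa, mul_one]⟩
    have he1 : e₁ ≠ 1 := by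
      rcases he with ⟨rfl, -⟩ | ⟨rfl, -⟩ | ⟨rfl, -⟩
      exacts [f.a1, f.b1, fun e => f.ne (by rw [← inv_eq_of_mul_eq_one_right e, inv_eq_of_mul_eq_one_right f.aa])]
    -- `e₁ * e₂` inverts `y`, so `v := t * (e₁ * e₂)` centralises it
    set v := t * (e₁ * e₂) with hv
    have hy3 : e₁ * e₂ * y * (e₁ * e₂)⁻¹ = y⁻¹ := by
      rw [show e₁ * e₂ * y * (e₁ * e₂)⁻¹ = e₁ * (e₂ * y * e₂⁻¹) * e₁⁻¹ by group, hiv,
        show e₁ * y⁻¹ * e₁⁻¹ = (e₁ * y * e₁⁻¹)⁻¹ by group, ← hc, mul_inv_cancel_right]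
    set y₂ := r * y * r⁻¹ with hy2
    have hy2O : y₂ ∈ O := hEn r f.hr y hy
    have hy23 : e₁ * e₂ * y₂ * (e₁ * e₂)⁻¹ = y₂⁻¹ := by
      rw [hy2, ← hr2, show r * e₂ * r⁻¹ * (r * y * r⁻¹) * (r * e₂ * r⁻¹)⁻¹ =
        r * (e₂ * y * e₂⁻¹) * r⁻¹ by group, hiv]
      group
    have hy21 : y₂⁻¹ = e₁ * y₂ * e₁⁻¹ := by
      have e : e₂ * y₂ * e₂⁻¹ = y₂ := by
        rw [hy2, ← hr1, show r * e₁ * r⁻¹ * (r * y * r⁻¹) * (r * e₁ * r⁻¹)⁻¹ =
          r * (e₁ * y * e₁⁻¹) * r⁻¹ by group, ← hc, mul_inv_cancel_right]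
      rw [← hy23, show e₁ * e₂ * y₂ * (e₁ * e₂)⁻¹ = e₁ * (e₂ * y₂ * e₂⁻¹) * e₁⁻¹ by group, e]
    have hvc : ∀ z ∈ O, e₁ * e₂ * z * (e₁ * e₂)⁻¹ = z⁻¹ → z * v = v * z := by
      intro z hz hzi
      refine (mul_inv_eq_iff_eq_mul.1 ?_).symm
      rw [hv, show t * (e₁ * e₂) * z * (t * (e₁ * e₂))⁻¹ = t * (e₁ * e₂ * z * (e₁ * e₂)⁻¹) * t⁻¹
        by group, hzi, hinv _ (inv_mem hz), inv_inv]
    have h1v : e₁ * v = v * e₁ := by
      rw [hv, ← mul_assoc, ← ht e₁ h1, mul_assoc, mul_assoc, mul_assoc, ← h12]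
    have hvt : v * t = t * v := by rw [hv, mul_assoc, ← ht _ (mul_mem h1 h2)]
    have hvv : v * v = 1 := by
      rw [hv, (show Commute (e₁ * e₂) t from (ht _ (mul_mem h1 h2)).symm).mul_mul_mul_comm, h.tt,
        (show Commute e₂ e₁ from h12.symm).mul_mul_mul_comm, h11, h22, one_mul, one_mul]
    have hv1 : v ≠ 1 := fun e => h.t_notMem (by
      rw [show t = (e₁ * e₂)⁻¹ from eq_inv_of_mul_eq_one_left e]
      exact inv_mem (h.le (mul_mem h1 h2)))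
    have := h.commute_key hna hvv hv1 (hvc y hy hy3) hvt (hinv y hy) (hodd y hy) hy1 h11 h1v hc
      (hvc y₂ hy2O hy23) (hcomm _ hy2O _ hy)
    have hy21' := eq_one_of_inverted (hodd _ hy2O) hy21.symm this
    exact hy1 (conj_eq_one_iff.1 hy21')
  have split : ∀ u ∈ E₀, u * u = 1 → ∀ z ∈ O, ∀ P : G → Prop,
      (∀ w ∈ O, u * w * u⁻¹ = w → P w → w = 1) → (∀ w ∈ O, u * w * u⁻¹ = w⁻¹ → P w → w = 1) →
      P (z * (u * z * u⁻¹)) → P (z * (u * z * u⁻¹)⁻¹) → z = 1 := by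
    intro u hu huu z hz P hfix hneg hP1 hP2
    have hz' := hEn u hu z hz
    have huu' : u * (u * z * u⁻¹) * u⁻¹ = z := by
      rw [show u * (u * z * u⁻¹) * u⁻¹ = u * u * z * (u * u)⁻¹ by group, huu]; group
    have e1 := hfix _ (mul_mem hz hz') (by
      rw [show u * (z * (u * z * u⁻¹)) * u⁻¹ = u * z * u⁻¹ * (u * (u * z * u⁻¹) * u⁻¹) by group, huu',
        hcomm _ hz' _ hz]) hP1
    have e2 := hneg _ (mul_mem hz (inv_mem hz')) (by
      rw [show u * (z * (u * z * u⁻¹)⁻¹) * u⁻¹ = u * z * u⁻¹ * (u * (u * z * u⁻¹) * u⁻¹)⁻¹ by group, huu']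
      group) hP2
    refine eq_one_of_odd_of_sq (hodd z hz) ?_
    rw [eq_inv_of_mul_eq_one_right e1, mul_inv_eq_one] at e2
    exact mul_eq_one_iff_eq_inv.2 e2
  have fix_of : ∀ u v : G, u ∈ E₀ → v ∈ E₀ → u * u = 1 → v * v = 1 → u * v = v * u →
      (∀ w ∈ O, w ≠ 1 → v * w * v⁻¹ = w → u * w * u⁻¹ ≠ w⁻¹) →
      (∀ w ∈ O, w ≠ 1 → u * v * w * (u * v)⁻¹ = w → u * w * u⁻¹ ≠ w⁻¹) →
      ∀ z ∈ O, u * z * u⁻¹ = z := by
    intro u v hu hv huu hvv huv hv' huv' z hz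
    by_contra hne
    have hd : z * (u * z * u⁻¹)⁻¹ ≠ 1 := fun e => hne (mul_inv_eq_one.1 e).symm
    have hdO : z * (u * z * u⁻¹)⁻¹ ∈ O := mul_mem hz (inv_mem (hEn u hu z hz))
    set d := z * (u * z * u⁻¹)⁻¹ with hd'
    have hdi : u * d * u⁻¹ = d⁻¹ := by
      rw [hd', show u * (z * (u * z * u⁻¹)⁻¹) * u⁻¹ = u * z * u⁻¹ * (u * (u * z * u⁻¹) * u⁻¹)⁻¹ by group,
        show u * (u * z * u⁻¹) * u⁻¹ = u * u * z * (u * u)⁻¹ by group, huu]
      group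
    refine hd (split v hv hvv d hdO (fun w => u * w * u⁻¹ = w⁻¹) ?_ ?_ ?_ ?_)
    · intro w hw hfix hP
      by_contra hw1
      exact hv' w hw hw1 hfix hP
    · intro w hw hneg hP
      by_contra hw1
      refine huv' w hw hw1 ?_ hP
      rw [show u * v * w * (u * v)⁻¹ = u * (v * w * v⁻¹) * u⁻¹ by group, hneg,
        show u * w⁻¹ * u⁻¹ = (u * w * u⁻¹)⁻¹ by group, hP, inv_inv]
    · have e : u * (v * d * v⁻¹) * u⁻¹ = (v * d * v⁻¹)⁻¹ := by
        rw [show u * (v * d * v⁻¹) * u⁻¹ = u * v * d * (u * v)⁻¹ by group, huv,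
          show v * u * d * (v * u)⁻¹ = v * (u * d * u⁻¹) * v⁻¹ by group, hdi]
        group
      rw [show u * (d * (v * d * v⁻¹)) * u⁻¹ = u * d * u⁻¹ * (u * (v * d * v⁻¹) * u⁻¹) by group, hdi, e,
        ← _root_.mul_inv_rev, hcomm _ (hEn v hv d hdO) _ hdO]
    · have e : u * (v * d * v⁻¹) * u⁻¹ = (v * d * v⁻¹)⁻¹ := by
        rw [show u * (v * d * v⁻¹) * u⁻¹ = u * v * d * (u * v)⁻¹ by group, huv,
          show v * u * d * (v * u)⁻¹ = v * (u * d * u⁻¹) * v⁻¹ by group, hdi]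
        group
      rw [show u * (d * (v * d * v⁻¹)⁻¹) * u⁻¹ = u * d * u⁻¹ * (u * (v * d * v⁻¹) * u⁻¹)⁻¹ by group, hdi,
        e, ← _root_.mul_inv_rev, hcomm _ (inv_mem (hEn v hv d hdO)) _ hdO]
  have k' : ∀ e₁ e₂, (e₁ = a ∧ e₂ = b ∨ e₁ = b ∧ e₂ = a * b ∨ e₁ = a * b ∧ e₂ = a) →
      ∀ w ∈ O, w ≠ 1 → e₁ * w * e₁⁻¹ = w → e₂ * w * e₂⁻¹ ≠ w⁻¹ := fun e₁ e₂ he w hw hw1 hfix =>
    key e₁ e₂ he w hw hw1 (mul_inv_eq_iff_eq_mul.1 hfix).symm
  have hbfix : ∀ z ∈ O, b * z * b⁻¹ = z := fix_of b a f.hb f.ha f.bb f.aa f.ab.symm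
    (k' a b (Or.inl ⟨rfl, rfl⟩)) fun w hw hw1 hfix hP => by
      rw [← f.ab] at hfix
      refine k' (a * b) a (Or.inr (Or.inr ⟨rfl, rfl⟩)) w hw hw1 hfix ?_
      calc a * w * a⁻¹ = a * b * (b⁻¹ * w * b) * (a * b)⁻¹ := by group
        _ = a * b * w⁻¹ * (a * b)⁻¹ := by
          rw [show b⁻¹ * w * b = b * w * b⁻¹ by rw [inv_eq_of_mul_eq_one_right f.bb], hP]
        _ = (a * b * w * (a * b)⁻¹)⁻¹ := by group
        _ = w⁻¹ := by rw [hfix]
  have hafix : ∀ z ∈ O, a * z * a⁻¹ = z := fix_of a b f.ha f.hb f.aa f.bb f.ab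
    (fun w hw hw1 hfix hP => by
      refine k' b (a * b) (Or.inr (Or.inl ⟨rfl, rfl⟩)) w hw hw1 hfix ?_
      rw [show a * b * w * (a * b)⁻¹ = a * (b * w * b⁻¹) * a⁻¹ by group, hfix, hP])
    (k' (a * b) a (Or.inr (Or.inr ⟨rfl, rfl⟩)))
  -- now `C_{E₀}(a)` has an odd element, which centralises `O`
  refine (eq_bot_iff_forall _).2 fun y hy => ?_
  by_contra hy1
  have hya : y * a = a * y := (mul_inv_eq_iff_eq_mul.1 (hafix y hy)).symm
  have hyb : y * b = b * y := (mul_inv_eq_iff_eq_mul.1 (hbfix y hy)).symm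
  obtain ⟨p, hp, hmem⟩ := h.pull_mem hna f.aa f.a1 hya (ht a f.ha).symm (hinv y hy) (hodd y hy)
  have hbt : p⁻¹ * b * p * t = t * (p⁻¹ * b * p) := by
    calc p⁻¹ * b * p * t = p⁻¹ * b * (p * t * p⁻¹) * p := by group
      _ = p⁻¹ * (b * a) * p := by rw [hp]; group
      _ = p⁻¹ * (a * b) * p := by rw [f.ab]
      _ = t * (p⁻¹ * b * p) := by rw [← hp]; group
  obtain ⟨e, he, hee, hpe⟩ := h.cases_involution hbt
    (by rw [show p⁻¹ * b * p * (p⁻¹ * b * p) = p⁻¹ * (b * b) * p by group, f.bb]; group)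
  have he1 : e ≠ 1 := by
    rintro rfl
    rcases hpe with e' | e'
    · exact f.b1 (by rw [show b = p * (p⁻¹ * b * p) * p⁻¹ by group, e']; group)
    · exact f.ne.symm (by rw [show b = p * (p⁻¹ * b * p) * p⁻¹ by group, e', mul_one, hp])
  have hye : p⁻¹ * y * p * e = e * (p⁻¹ * y * p) := by
    have e0 : p⁻¹ * y * p * (p⁻¹ * b * p) = p⁻¹ * b * p * (p⁻¹ * y * p) := by
      calc p⁻¹ * y * p * (p⁻¹ * b * p) = p⁻¹ * (y * b) * p := by group
        _ = p⁻¹ * (b * y) * p := by rw [hyb]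
        _ = p⁻¹ * b * p * (p⁻¹ * y * p) := by group
    rcases hpe with e' | e' <;> rw [e'] at e0
    · exact e0
    · have hcom : Commute t (p⁻¹ * y * p) := ht _ hmem
      generalize p⁻¹ * y * p = q at e0 hcom ⊢
      rw [← mul_assoc, ← hcom.eq, mul_assoc, mul_assoc] at e0
      exact mul_left_cancel e0
  obtain ⟨z, hz, hz1, hzo, hza, hzb⟩ := h.exists_odd hmem
    (fun e => hy1 (by rw [show y = p * (p⁻¹ * y * p) * p⁻¹ by group, e]; group))
    (by rw [show p⁻¹ * y * p = MulAut.conj p⁻¹ y by simp, MulEquiv.orderOf_eq]; exact hodd y hy)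
    he hee he1 hye f.ha f.aa f.a1 f.hb f.bb f.b1 f.ne.symm f.ab.symm
  have hzy : z * y = y * z := by
    have hzn : z⁻¹ * y * z ∈ O := by simpa using hEn z⁻¹ (inv_mem hz) y hy
    have hb' : ∀ w ∈ O, b * w = w * b := fun w hw => mul_inv_eq_iff_eq_mul.1 (hbfix w hw)
    have hc1 : Commute (z * b * z⁻¹) y := by
      have e := hb' _ hzn
      calc z * b * z⁻¹ * y = z * (b * (z⁻¹ * y * z)) * z⁻¹ := by group
        _ = z * (z⁻¹ * y * z * b) * z⁻¹ := by rw [e]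
        _ = y * (z * b * z⁻¹) := by group
    have hc2 : Commute (z * z) y := by
      have hb1 : b * z⁻¹ * b⁻¹ = z := by
        rw [show b * z⁻¹ * b⁻¹ = (b * z * b⁻¹)⁻¹ by group, hzb, inv_inv]
      have e : z * z = z * b * z⁻¹ * b⁻¹ := by
        rw [mul_assoc, mul_assoc, ← mul_assoc b, hb1]
      rw [e]
      exact hc1.mul_left (show Commute b y from hyb.symm).inv_left
    obtain ⟨k, hk⟩ := hzo
    have e : z = (z * z) ^ (k + 1) := by
      rw [← pow_two, ← pow_mul, show 2 * (k + 1) = orderOf z + 1 by omega, pow_succ, pow_orderOf_eq_one,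
        one_mul]
    rw [e]
    exact (hc2.pow_left _).eq
  exact hz1 (eq_one_of_inverted hzo hzb
    (h.commute_key hna f.aa f.a1 hya (ht a f.ha).symm (hinv y hy) (hodd y hy) hy1 f.bb f.ab.symm hyb
      hza hzy))

/-- If `t` is isolated in `H ≥ C(t)` then `H = C(t)`. -/
theorem le_of_isolated (hna : ¬ IsMulCommutative G) {H : Subgroup G}
    (hH : centralizer ({t} : Set G) ≤ H)
    (hiso : ∀ g ∈ H, (g * t * g⁻¹) * t = t * (g * t * g⁻¹) → g * t * g⁻¹ = t) :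
    H ≤ centralizer ({t} : Set G) := by
  haveI : Fact (Nat.Prime 2) := ⟨Nat.prime_two⟩
  have htH : t ∈ H := hH (h.mem_cent.2 rfl)
  have hI : Cfsg.IsIsolatedInvolution (⟨t, htH⟩ : H) :=
    ⟨by rw [Subgroup.orderOf_mk]; exact h.inv, fun g hg =>
      Subtype.ext (hiso g g.2 (congrArg Subtype.val hg.eq).symm)⟩
  have hz := CfsgLib.Involutions.zstar H _ hI
  set O₀ := Cfsg.pPrimeCore 2 H with hO₀
  haveI hn₀ : O₀.Normal := Cfsg.pPrimeCore_normal 2 H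
  set O := O₀.map H.subtype with hO
  have ho : Odd (Nat.card O) := by
    have hnd : ¬ 2 ∣ Nat.card O₀ := CfsgLib.PCore.not_dvd_card_pPrimeCore
    rw [hO, Subgroup.card_map_of_injective H.subtype_injective, Nat.odd_iff]
    omega
  have hnorm : ∀ g ∈ H, ∀ x ∈ O, g * x * g⁻¹ ∈ O := by
    rintro g hg _ ⟨x, hx, rfl⟩
    exact ⟨_, hn₀.conj_mem x hx ⟨g, hg⟩, rfl⟩
  have hC : O ⊓ centralizer ({t} : Set G) = ⊥ := h.eq_bot_of_odd
    (fun x hx => h.mem_cent.1 (mem_inf.1 hx).2) (ho.of_dvd_nat (card_dvd_of_le inf_le_left))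
    fun e he x hx => mem_inf.2 ⟨hnorm e (hH (h.E_le he)) x (mem_inf.1 hx).1,
      mul_mem (mul_mem (h.E_le he) (mem_inf.1 hx).2) (inv_mem (h.E_le he))⟩
  let φ : O →* O :=
    { toFun := fun x => ⟨t * x * t⁻¹, hnorm t htH x x.2⟩
      map_one' := Subtype.ext (by simp)
      map_mul' := fun x y => Subtype.ext (by show t * (x.1 * y.1) * t⁻¹ = _; simp [mul_assoc]) }
  have hfpf : MonoidHom.FixedPointFree φ := fun x hx => by
    have h1 : (x : G) ∈ O ⊓ centralizer ({t} : Set G) :=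
      mem_inf.2 ⟨x.2, h.mem_cent.2 (mul_inv_eq_iff_eq_mul.1 (congrArg Subtype.val hx)).symm⟩
    rw [hC, mem_bot] at h1
    exact Subtype.ext h1
  have hinvol : Function.Involutive φ := fun x => Subtype.ext (by
    show t * (t * x.1 * t⁻¹) * t⁻¹ = x.1
    rw [show t * (t * x.1 * t⁻¹) * t⁻¹ = t * t * x.1 * (t * t)⁻¹ by group, h.tt]
    group)
  have hinv : ∀ x ∈ O, t * x * t⁻¹ = x⁻¹ := fun x hx =>
    congrArg Subtype.val (congrFun (hfpf.coe_eq_inv_of_involutive hinvol) ⟨x, hx⟩)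
  have hcomm : ∀ x ∈ O, ∀ y ∈ O, x * y = y * x := fun x hx y hy =>
    congrArg Subtype.val (hfpf.commute_all_of_involutive hinvol ⟨x, hx⟩ ⟨y, hy⟩).eq
  have hbot := h.inverted_eq_bot hna ho hinv hcomm fun g hg => hnorm g (hH (h.mem_cent.2 hg))
  intro g hg
  have h1 : g * t * g⁻¹ * t⁻¹ ∈ O := ⟨_, hz ⟨g, hg⟩, rfl⟩
  rw [hbot, mem_bot, mul_inv_eq_one, mul_inv_eq_iff_eq_mul] at h1
  exact h.mem_cent.2 h1

end Setting

end CfsgLib.AbelPSL
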