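import Cfsg.Agent.Lib.AbelPSL.Isolated
import Cfsg.Agent.Lib.AbelPSL.Embedded

/-!
The centraliser of an involution of type `⟨t⟩ × PSL₂(q)` in a simple group with commutative Sylow
2-subgroups is maximal, given Bender's kernel theorem.
-/

set_option autoImplicit false

open Subgroup

namespace CfsgLib.AbelPSL

universe u

variable {G : Type u} [Group G] [Finite G] [IsSimpleGroup G] {t : G} {E E₀ : Subgroup G}
  {F : Type*} [Field F] [Fintype F]

theorem Setting.isCoatom_centralizer (h : Setting t E E₀ F)
    (hB : CfsgLib.BenderQ.BenderKernel.{u}) (hna : ¬ IsMulCommutative G) :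
    IsCoatom (centralizer ({t} : Set G)) := by
  refine ⟨fun e => ?_, fun H hlt => ?_⟩
  · have hz : t ∈ center G := mem_center_iff.2 fun g => h.mem_cent.1 (e ▸ mem_top g)
    rw [CfsgLib.Small.center_eq_bot_of_nc hna, mem_bot] at hz
    exact h.t1 hz
  · by_contra hne
    by_cases hfus : ∃ g ∈ H, (g * t * g⁻¹) * t = t * (g * t * g⁻¹) ∧ g * t * g⁻¹ ≠ t
    · exact h.false_of_fused hB hna hlt.le hne hfus
    · push Not at hfus
      exact hlt.not_ge (h.le_of_isolated hna hlt.le hfus)

end CfsgLib.AbelPSL
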