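import Cfsg.Agent.Lib.GW.Field
import Cfsg.Agent.Lib.PSL2.Involution
import Cfsg.Agent.Lib.DGroup.Outer

/-!
A group over a normal `PSL₂(q)`, `q` odd, with trivial centraliser and commutative 2-subgroups:
the Sylow 2-subgroups are four groups inside the normal subgroup, involutions are conjugate and the
centralisers of odd elements in the torus of an involution are controlled.
-/

set_option autoImplicit false
set_option linter.unusedSectionVars false

open Subgroup

namespace CfsgLib.AbelPSL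

open CfsgLib.PSL2 CfsgLib.AutPSL CfsgLib.GW.TopModel CfsgLib.GW.FieldModel

universe u

variable {Y : Type u} [Group Y] [Finite Y]

/-- `Y` lies over a normal `PSL₂(q)`, `q` odd, with trivial centraliser, and has commutative
2-subgroups. -/
structure Over (L : Subgroup Y) (F : Type*) [Field F] [Fintype F] : Prop where
  normal : L.Normal
  cent : centralizer (L : Set Y) = ⊥
  equiv : Nonempty (L ≃* Matrix.ProjectiveSpecialLinearGroup (Fin 2) F)
  odd : Odd (Fintype.card F)
  comm : ∀ P : Subgroup Y, IsPGroup 2 P → ∀ x ∈ P, ∀ y ∈ P, x * y = y * x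

variable {F : Type*} [Field F] [Fintype F] {L : Subgroup Y}

local notation "PSL" => Matrix.ProjectiveSpecialLinearGroup (Fin 2) F
local notation "PGL" => Matrix.ProjGenLinGroup (Fin 2) F
local notation "toP" => (Matrix.ProjectiveSpecialLinearGroup.toPGL : PSL →* Matrix.ProjGenLinGroup (Fin 2) F)

/-- The four group generated by two commuting involutions. -/
theorem exists_four_group {G : Type*} [Group G] {a b : G} (ha : a * a = 1) (hb : b * b = 1)
    (hab : a * b = b * a) (ha1 : a ≠ 1) (hb1 : b ≠ 1) (hne : a ≠ b) :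
    ∃ W : Subgroup G, IsKleinFour W ∧ ∀ z, z ∈ W ↔ z = 1 ∨ z = a ∨ z = b ∨ z = a * b := by
  have h1 : a * (a * b) = b := by rw [← mul_assoc, ha, one_mul]
  have h2 : b * (a * b) = a := by rw [hab, ← mul_assoc, hb, one_mul]
  have h3 : a * b * a = b := by rw [hab, mul_assoc, ha, mul_one]
  have h4 : a * b * b = a := by rw [mul_assoc, hb, mul_one]
  have h5 : a * b * (a * b) = 1 := by rw [← mul_assoc, h3, hb]
  have hmul : ∀ x y : G, (x = 1 ∨ x = a ∨ x = b ∨ x = a * b) → (y = 1 ∨ y = a ∨ y = b ∨ y = a * b) →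
      (x * y = 1 ∨ x * y = a ∨ x * y = b ∨ x * y = a * b) := by
    rintro x y (rfl | rfl | rfl | rfl) (rfl | rfl | rfl | rfl) <;>
      simp only [one_mul, mul_one, ha, hb, h1, h2, h3, h4, h5, ← hab, true_or, or_true]
  have hinv : ∀ x : G, (x = 1 ∨ x = a ∨ x = b ∨ x = a * b) →
      (x⁻¹ = 1 ∨ x⁻¹ = a ∨ x⁻¹ = b ∨ x⁻¹ = a * b) := by
    rintro x (rfl | rfl | rfl | rfl) <;>
      simp only [inv_one, inv_eq_of_mul_eq_one_right ha, inv_eq_of_mul_eq_one_right hb,
        inv_eq_of_mul_eq_one_right h5, true_or, or_true]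
  let W : Subgroup G :=
    { carrier := {z | z = 1 ∨ z = a ∨ z = b ∨ z = a * b}
      one_mem' := Or.inl rfl
      mul_mem' := fun hx hy => hmul _ _ hx hy
      inv_mem' := fun hx => hinv _ hx }
  have hc : (W : Set G) = {1, a, b, a * b} := Set.ext fun y => by rfl
  have hc4 : Nat.card W = 4 := by
    show Nat.card ↥(W : Set G) = 4
    rw [Nat.card_coe_set_eq, hc, Set.ncard_insert_of_notMem, Set.ncard_insert_of_notMem, Set.ncard_pair]
    · exact fun e : b = a * b => ha1 (right_eq_mul.1 e)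
    · simp only [Set.mem_insert_iff, Set.mem_singleton_iff, not_or]
      exact ⟨hne, fun e : a = a * b => hb1 (left_eq_mul.1 e)⟩
    · simp only [Set.mem_insert_iff, Set.mem_singleton_iff, not_or]
      exact ⟨Ne.symm ha1, Ne.symm hb1, fun e => hne (by
        rw [← inv_eq_of_mul_eq_one_right e.symm, inv_eq_of_mul_eq_one_right ha])⟩
  refine ⟨W, ⟨hc4, ?_⟩, fun z => Iff.rfl⟩
  have : Finite W := Nat.finite_of_card_ne_zero (by omega)
  have hn : Nontrivial W := Finite.one_lt_card_iff_nontrivial.1 (by omega)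
  refine (Nat.prime_two.eq_one_or_self_of_dvd _ ?_).resolve_left ?_
  · refine Monoid.exponent_dvd_of_forall_pow_eq_one fun g => Subtype.ext ?_
    rw [sq]
    rcases g.2 with e | e | e | e <;>
      simp only [Subgroup.coe_mul, OneMemClass.coe_one, e, one_mul, ha, hb, h5]
  · exact fun e => not_subsingleton _ (Monoid.exp_eq_one_iff.1 e)

namespace Over

variable (h : Over L F)
include h

theorem two_ne_zero : (2 : F) ≠ 0 := two_ne_zero_of_odd h.odd

/-- The isomorphism with `PSL₂`. -/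
noncomputable def e : L ≃* PSL := h.equiv.some

/-- The action on `PSL₂`. -/
noncomputable def phi : Y →* MulAut PSL :=
  haveI := h.normal
  (MulAut.congr h.e).toMonoidHom.comp MulAut.conjNormal

theorem phi_apply (y : Y) (x : L) :
    h.phi y (h.e x) = h.e ⟨y * x * y⁻¹, h.normal.conj_mem _ x.2 y⟩ := by
  haveI := h.normal
  show h.e (MulAut.conjNormal y (h.e.symm (h.e x))) = _
  rw [MulEquiv.symm_apply_apply]
  exact congrArg h.e (Subtype.ext (MulAut.conjNormal_apply y x))

theorem commute_iff (y : Y) (x : L) : y * x = x * y ↔ h.phi y (h.e x) = h.e x := by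
  rw [h.phi_apply, h.e.injective.eq_iff]
  constructor
  · exact fun hc => Subtype.ext (mul_inv_eq_of_eq_mul hc)
  · exact fun hc => mul_inv_eq_iff_eq_mul.1 (congrArg Subtype.val hc)

theorem phi_injective : Function.Injective h.phi := by
  rw [injective_iff_map_eq_one]
  intro y hy
  have : y ∈ centralizer (L : Set Y) := mem_centralizer_iff.2 fun x hx =>
    ((h.commute_iff y ⟨x, hx⟩).2 (by rw [hy, MulAut.one_apply])).symm
  rwa [h.cent, mem_bot] at this

theorem phi_coe (x : L) : h.phi x = aut F (toP (h.e x)) := by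
  rw [aut_toP]
  apply MulEquiv.ext
  intro z
  obtain ⟨w, rfl⟩ := h.e.surjective z
  rw [h.phi_apply, MulAut.conj_apply, ← map_inv, ← map_mul, ← map_mul]
  exact congrArg h.e (Subtype.ext rfl)

theorem mem_of_aut {y : Y} {g : PGL} (hy : h.phi y = aut F g) (hg : g ∈ pslImage F) : y ∈ L := by
  obtain ⟨x, rfl⟩ := exists_toP hg
  have : y = (h.e.symm x : L) := h.phi_injective (by
    rw [hy, h.phi_coe, MulEquiv.apply_symm_apply])
  rw [this]
  exact SetLike.coe_mem _

theorem not_isSquare_two : ¬ IsSquare (2 : F) := by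
  intro hsq
  obtain ⟨K, ⟨ε⟩⟩ := exists_symm_four_psl h.two_ne_zero hsq
  let f : Equiv.Perm (Fin 4) →* Y :=
    L.subtype.comp (h.e.symm.toMonoidHom.comp (K.subtype.comp ε.symm.toMonoidHom))
  have hf : Function.Injective f :=
    L.subtype_injective.comp (h.e.symm.injective.comp (K.subtype_injective.comp ε.symm.injective))
  let d : Equiv.Perm (Fin 4) := Equiv.swap 0 2 * Equiv.swap 1 3
  have hP : IsPGroup 2 (Subgroup.centralizer ({d} : Set (Equiv.Perm (Fin 4)))) := by
    intro x
    refine ⟨2, Subtype.ext ?_⟩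
    have key : ∀ x : Equiv.Perm (Fin 4), x * d = d * x → x ^ 4 = 1 := by decide +kernel
    exact key x (Subgroup.mem_centralizer_singleton_iff.1 x.2)
  have hx : ∀ z : Equiv.Perm (Fin 4), z * d = d * z →
      f z ∈ (Subgroup.centralizer ({d} : Set (Equiv.Perm (Fin 4)))).map f :=
    fun z hz => ⟨z, Subgroup.mem_centralizer_singleton_iff.2 hz, rfl⟩
  have := h.comm _ (hP.map f) (f (Equiv.swap 0 2)) (hx _ (by decide))
    (f (Equiv.swap 0 1 * Equiv.swap 2 3)) (hx _ (by decide))
  rw [← map_mul, ← map_mul] at this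
  exact absurd (hf this) (by decide)

omit h in
theorem ringEquiv_eq_one (hσ : ∀ σ : F ≃+* F, σ * σ = 1 → σ = 1) :
    ∀ (k : ℕ) (σ : F ≃+* F), σ ^ 2 ^ k = 1 → σ = 1 := by
  intro k
  induction k with
  | zero => intro σ e; simpa using e
  | succ k ih =>
    intro σ e
    refine hσ σ (ih _ ?_)
    rw [← pow_two, ← pow_mul]
    rwa [pow_succ'] at e

theorem part_eq_one {y : Y} {k : ℕ} (hy : y ^ 2 ^ k = 1) : partHom (h.phi y) = 1 := by
  refine ringEquiv_eq_one (fun σ hσ => ?_) k _ (by rw [← map_pow, ← map_pow, hy, map_one, map_one])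
  by_contra hne
  exact h.not_isSquare_two (DGroup.fixed_isSquare h.two_ne_zero hσ hne (map_ofNat σ 2))

theorem part_eq_one_of_mem {y : Y} (hy : y ∈ L) : partHom (h.phi y) = 1 :=
  mem_range_aut.1 ⟨_, h.phi_coe ⟨y, hy⟩⟩

/-- A four group with a rotation, self-centralising among the elements with trivial field part. -/
theorem exists_four : ∃ a b r : Y, a ∈ L ∧ b ∈ L ∧ r ∈ L ∧ a ≠ 1 ∧ b ≠ 1 ∧ a ≠ b ∧ a * a = 1 ∧
    b * b = 1 ∧ a * b = b * a ∧ r * a * r⁻¹ = b ∧ r * b * r⁻¹ = a * b ∧
    ∀ y : Y, partHom (h.phi y) = 1 → y * a = a * y → y * b = b * y →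
      y = 1 ∨ y = a ∨ y = b ∨ y = a * b := by
  have h2 := h.two_ne_zero
  obtain ⟨I, J, q⟩ := CfsgLib.PSL2.exists_qpair h2
  obtain ⟨xa, hxa⟩ := exists_toP (q.kleinV_le_pslImage h2 (show q.ei h2 ∈ q.kleinV h2 from
    Or.inr (Or.inl rfl)))
  obtain ⟨xb, hxb⟩ := exists_toP (q.kleinV_le_pslImage h2 (show q.ej h2 ∈ q.kleinV h2 from
    Or.inr (Or.inr (Or.inl rfl))))
  obtain ⟨xr, hxr⟩ := exists_toP (q.rElt_mem_pslImage h2)
  have hinj := Matrix.ProjectiveSpecialLinearGroup.toPGL_injective (n := Fin 2) (R := F)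
  let i : PSL →* Y := L.subtype.comp h.e.symm.toMonoidHom
  have hi : Function.Injective i := L.subtype_injective.comp h.e.symm.injective
  have hphi : ∀ x, h.phi (i x) = aut F (toP x) := fun x => by
    rw [show i x = ((h.e.symm x : L) : Y) from rfl, h.phi_coe, MulEquiv.apply_symm_apply]
  have ea : xa ≠ 1 := fun e => q.ei_ne_one h2 (by rw [← hxa, e, map_one])
  have eb : xb ≠ 1 := fun e => q.ej_ne_one h2 (by rw [← hxb, e, map_one])
  have eab : xa ≠ xb := fun e => q.ei_ne_ej h2 (by rw [← hxa, e, hxb])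
  have eaa : xa * xa = 1 := hinj (by rw [map_mul, map_one, hxa, q.ei_mul_self h2])
  have ebb : xb * xb = 1 := hinj (by rw [map_mul, map_one, hxb, q.ej_mul_self h2])
  have ec : xa * xb = xb * xa := hinj (by
    rw [map_mul, map_mul, hxa, hxb, q.ei_mul_ej h2, q.ej_mul_ei h2])
  have er1 : xr * xa * xr⁻¹ = xb := hinj (by
    rw [map_mul, map_mul, map_inv, hxa, hxb, hxr, mul_inv_eq_iff_eq_mul]
    exact q.rElt_lab h2 0)
  have er2 : xr * xb * xr⁻¹ = xa * xb := hinj (by
    rw [map_mul, map_mul, map_mul, map_inv, hxa, hxb, hxr, mul_inv_eq_iff_eq_mul, q.ei_mul_ej h2]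
    exact q.rElt_lab h2 1)
  refine ⟨i xa, i xb, i xr, SetLike.coe_mem _, SetLike.coe_mem _, SetLike.coe_mem _,
    fun e => ea (hi (e.trans (map_one i).symm)), fun e => eb (hi (e.trans (map_one i).symm)),
    fun e => eab (hi e), by rw [← map_mul, eaa, map_one], by rw [← map_mul, ebb, map_one],
    by rw [← map_mul, ec, map_mul], by rw [← map_inv, ← map_mul, ← map_mul, er1],
    by rw [← map_inv, ← map_mul, ← map_mul, er2, map_mul], fun y hy hya hyb => ?_⟩
  obtain ⟨g, hg⟩ := mem_range_aut.2 hy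
  have hc : ∀ x : PSL, y * i x = i x * y → g * toP x = toP x * g := fun x hx => by
    refine aut_injective ?_
    rw [map_mul, map_mul, ← hg, ← hphi, ← map_mul, ← map_mul, hx]
  have hmem := q.mem_kleinV_of_commute h2 (hxa ▸ hc xa hya) (hxb ▸ hc xb hyb)
  rcases hmem with e | e | e | e
  · exact Or.inl (h.phi_injective (by rw [hg, e, map_one, map_one]))
  · exact Or.inr (Or.inl (h.phi_injective (by rw [hg, hphi, hxa, e])))
  · exact Or.inr (Or.inr (Or.inl (h.phi_injective (by rw [hg, hphi, hxb, e]))))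
  · refine Or.inr (Or.inr (Or.inr (h.phi_injective ?_)))
    rw [hg, map_mul, hphi, hphi, hxa, hxb, ← map_mul, q.ei_mul_ej h2, e]

theorem exists_sylow_four : ∃ (P : Sylow 2 Y) (a b r : Y), a ∈ L ∧ b ∈ L ∧ r ∈ L ∧ a ≠ 1 ∧ b ≠ 1 ∧
    a ≠ b ∧ a * a = 1 ∧ b * b = 1 ∧ a * b = b * a ∧ r * a * r⁻¹ = b ∧ r * b * r⁻¹ = a * b ∧
    (∀ y : Y, y ∈ (P : Subgroup Y) ↔ y = 1 ∨ y = a ∨ y = b ∨ y = a * b) ∧
    (∀ y : Y, partHom (h.phi y) = 1 → y * a = a * y → y * b = b * y → y ∈ (P : Subgroup Y)) := by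
  haveI : Fact (Nat.Prime 2) := ⟨Nat.prime_two⟩
  obtain ⟨a, b, r, haL, hbL, hrL, ha1, hb1, hne, ha, hb, hab, hr1, hr2, hcent⟩ := h.exists_four
  have hp : IsPGroup 2 (Subgroup.closure ({a, b} : Set Y)) := by
    refine DGroup.closure_isPGroup ?_ ?_
    · rintro x (rfl | rfl) y (rfl | rfl)
      exacts [rfl, hab, hab.symm, rfl]
    · rintro x (rfl | rfl)
      exacts [ha, hb]
  obtain ⟨P, hP⟩ := hp.exists_le_sylow
  have haP : a ∈ (P : Subgroup Y) := hP (subset_closure (by simp))
  have hbP : b ∈ (P : Subgroup Y) := hP (subset_closure (by simp))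
  have hiff : ∀ y : Y, y ∈ (P : Subgroup Y) ↔ y = 1 ∨ y = a ∨ y = b ∨ y = a * b := by
    refine fun y => ⟨fun hy => ?_, ?_⟩
    · obtain ⟨k, hk⟩ := P.isPGroup' ⟨y, hy⟩
      exact hcent y (h.part_eq_one (k := k) (by simpa using congrArg Subtype.val hk))
        (h.comm _ P.isPGroup' y hy a haP) (h.comm _ P.isPGroup' y hy b hbP)
    · rintro (rfl | rfl | rfl | rfl)
      exacts [one_mem _, haP, hbP, mul_mem haP hbP]
  exact ⟨P, a, b, r, haL, hbL, hrL, ha1, hb1, hne, ha, hb, hab, hr1, hr2, hiff,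
    fun y hy h1 h2 => (hiff y).2 (hcent y hy h1 h2)⟩

theorem sylow_le (S : Sylow 2 Y) : (S : Subgroup Y) ≤ L := by
  haveI : Fact (Nat.Prime 2) := ⟨Nat.prime_two⟩
  obtain ⟨P, a, b, r, haL, hbL, -, -, -, -, -, -, -, -, -, hiff, -⟩ := h.exists_sylow_four
  obtain ⟨g, rfl⟩ := MulAction.exists_smul_eq Y P S
  rintro _ ⟨y, hy, rfl⟩
  refine h.normal.conj_mem y ?_ g
  rcases (hiff y).1 hy with rfl | rfl | rfl | rfl
  exacts [one_mem _, haL, hbL, mul_mem haL hbL]

theorem mem_of_two_pow {y : Y} {k : ℕ} (hy : y ^ 2 ^ k = 1) : y ∈ L := by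
  haveI : Fact (Nat.Prime 2) := ⟨Nat.prime_two⟩
  have hp : IsPGroup 2 (Subgroup.zpowers y) := by
    intro z
    obtain ⟨n, hn⟩ := Subgroup.mem_zpowers_iff.1 z.2
    refine ⟨k, Subtype.ext ?_⟩
    rw [SubgroupClass.coe_pow, ← hn, ← zpow_natCast, ← zpow_mul, mul_comm, zpow_mul, zpow_natCast, hy,
      one_zpow, OneMemClass.coe_one]
  obtain ⟨S, hS⟩ := hp.exists_le_sylow
  exact h.sylow_le S (hS (Subgroup.mem_zpowers y))

theorem mem_of_involution {v : Y} (hv : v * v = 1) : v ∈ L :=
  h.mem_of_two_pow (k := 1) (by simpa [pow_two] using hv)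

theorem exists_conj {v w : Y} (hv : v * v = 1) (hv1 : v ≠ 1) (hw : w * w = 1) (hw1 : w ≠ 1) :
    ∃ g ∈ L, g * v * g⁻¹ = w := by
  have ho : ∀ x : L, (x : Y) * x = 1 → (x : Y) ≠ 1 → orderOf (h.e x) = 2 := fun x hx hx1 => by
    rw [MulEquiv.orderOf_eq, ← Subgroup.orderOf_coe, Involutions.orderOf_eq_two_iff_mul]
    exact ⟨hx1, hx⟩
  obtain ⟨g, hg⟩ := isConj_iff.1 (isConj_of_orderOf_two h.two_ne_zero
    (ho ⟨v, h.mem_of_involution hv⟩ hv hv1) (ho ⟨w, h.mem_of_involution hw⟩ hw hw1))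
  refine ⟨(h.e.symm g : L), SetLike.coe_mem _, ?_⟩
  have := congrArg h.e.symm hg
  rw [map_mul, map_mul, map_inv, MulEquiv.symm_apply_apply, MulEquiv.symm_apply_apply] at this
  exact congrArg Subtype.val this

theorem psl (h3 : 3 < Fintype.card F) : GW.Field.Psl L F where
  normal := h.normal
  cent := h.cent
  equiv := h.equiv
  odd := h.odd
  three := h3
  sylow S := by
    haveI : Fact (Nat.Prime 2) := ⟨Nat.prime_two⟩
    obtain ⟨P, a, b, r, -, -, -, ha1, hb1, hne, ha, hb, hab, -, -, hiff, -⟩ := h.exists_sylow_four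
    obtain ⟨W, hW, hWiff⟩ := exists_four_group ha hb hab ha1 hb1 hne
    have hPW : (P : Subgroup Y) = W := Subgroup.ext fun z => (hiff z).trans (hWiff z).symm
    haveI : IsKleinFour (P : Subgroup Y) := hPW ▸ hW
    exact ⟨2, ⟨(S.equiv P).trans IsKleinFour.nonempty_mulEquiv.some⟩⟩

/-! ### The case `q = 3` -/

theorem normal_four_iff : Fintype.card F = 3 ↔
    ∀ x ∈ L, ∀ a b : Y, a ∈ L → b ∈ L → a * a = 1 → b * b = 1 → a * b = b * a → a ≠ 1 → b ≠ 1 →
      a ≠ b → x * a * x⁻¹ = a ∨ x * a * x⁻¹ = b ∨ x * a * x⁻¹ = a * b := by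
  have h2 := h.two_ne_zero
  have hinj := Matrix.ProjectiveSpecialLinearGroup.toPGL_injective (n := Fin 2) (R := F)
  have hcard : 2 * Nat.card PSL = (Fintype.card F + 1) * (Fintype.card F * (Fintype.card F - 1)) := by
    rw [← card_psl, Nat.gcd_eq_left]
    obtain ⟨m, hm⟩ := h.odd
    omega
  have hpsl : Nat.card PSL = Nat.card (pslImage F) := Nat.card_congr pslEquiv.toEquiv
  constructor
  · intro hF x hx a b ha hb haa hbb hab ha1 hb1 hne
    -- the image of the four group is the kernel of the action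
    let xa := toP (h.e ⟨a, ha⟩)
    let xb := toP (h.e ⟨b, hb⟩)
    have hya : h.phi a = aut F xa := h.phi_coe ⟨a, ha⟩
    have hyb : h.phi b = aut F xb := h.phi_coe ⟨b, hb⟩
    have hxab : xa * xb = xb * xa := aut_injective (by
      rw [map_mul, map_mul, ← hya, ← hyb, ← map_mul, ← map_mul, hab])
    have hxa : xa * xa = 1 := aut_injective (by rw [map_mul, map_one, ← hya, ← map_mul, haa, map_one])
    have hxb : xb * xb = 1 := aut_injective (by rw [map_mul, map_one, ← hyb, ← map_mul, hbb, map_one])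
    have nab : xa ≠ xb := fun e => hne (h.phi_injective (by rw [hya, hyb, e]))
    have na : xa ≠ 1 := fun e => ha1 (h.phi_injective (by rw [hya, e, map_one, map_one]))
    have nb : xb ≠ 1 := fun e => hb1 (h.phi_injective (by rw [hyb, e, map_one, map_one]))
    obtain ⟨W, hW, hset⟩ := exists_four_group hxa hxb hxab na nb nab
    have hWle : W ≤ pslImage F := fun z hz => by
      rcases (hset z).1 hz with rfl | rfl | rfl | rfl
      exacts [one_mem _, toP_mem _, toP_mem _, mul_mem (toP_mem _) (toP_mem _)]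
    obtain ⟨I, J, q, hWq⟩ := exists_qpair_of_klein h2 hWle hW
    have hfull : pslImage F ≤ q.normV h2 := by
      refine inf_eq_left.1 (Subgroup.eq_of_le_of_card_ge inf_le_left ?_)
      rw [inf_comm, q.card_normV_inf h2 h.not_isSquare_two, ← hpsl]
      rw [hF] at hcard
      omega
    have hmem := (Subgroup.mem_normalizer_iff.1 (hfull (toP_mem (h.e ⟨x, hx⟩))) xa).1
      (hWq ▸ (hset _).2 (Or.inr (Or.inl rfl)))
    rw [← hWq, hset] at hmem
    have key : h.phi (x * a * x⁻¹) =
        aut F (toP (h.e ⟨x, hx⟩) * xa * (toP (h.e ⟨x, hx⟩))⁻¹) := by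
      rw [map_mul, map_mul, map_inv, map_mul, map_mul, map_inv, hya, h.phi_coe ⟨x, hx⟩]
    rcases hmem with e | e | e | e
    · rw [mul_inv_eq_one, mul_eq_left] at e; exact absurd e na
    · exact Or.inl (h.phi_injective (by rw [key, e, hya]))
    · exact Or.inr (Or.inl (h.phi_injective (by rw [key, e, hyb])))
    · exact Or.inr (Or.inr (h.phi_injective (by rw [key, e, map_mul, map_mul, hya, hyb])))
  · intro hall
    obtain ⟨I, J, q⟩ := CfsgLib.PSL2.exists_qpair h2
    let i : PSL →* Y := L.subtype.comp h.e.symm.toMonoidHom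
    have hi : Function.Injective i := L.subtype_injective.comp h.e.symm.injective
    have hfull : pslImage F ≤ q.normV h2 := by
      intro g hg
      obtain ⟨x, rfl⟩ := exists_toP hg
      have hstep : ∀ u v : PGL, u ∈ q.kleinV h2 → v ∈ q.kleinV h2 → u ≠ 1 → v ≠ 1 → u ≠ v →
          toP x * u * (toP x)⁻¹ ∈ q.kleinV h2 := by
        intro u v hu hv hu1 hv1 huv
        obtain ⟨xu, rfl⟩ := exists_toP (q.kleinV_le_pslImage h2 hu)
        obtain ⟨xv, rfl⟩ := exists_toP (q.kleinV_le_pslImage h2 hv)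
        have e1 : xu * xu = 1 := hinj (by rw [map_mul, map_one, q.mul_self_kleinV h2 hu])
        have e2 : xv * xv = 1 := hinj (by rw [map_mul, map_one, q.mul_self_kleinV h2 hv])
        have e3 : xu * xv = xv * xu := hinj (by rw [map_mul, map_mul, q.commute_kleinV h2 hu hv])
        have := hall (i x) (SetLike.coe_mem _) (i xu) (i xv) (SetLike.coe_mem _) (SetLike.coe_mem _)
          (by rw [← map_mul, e1, map_one]) (by rw [← map_mul, e2, map_one])
          (by rw [← map_mul, e3, map_mul])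
          (fun e => hu1 (by rw [hi (e.trans (map_one i).symm), map_one]))
          (fun e => hv1 (by rw [hi (e.trans (map_one i).symm), map_one]))
          (fun e => huv (by rw [hi e]))
        rw [← map_inv i, ← map_mul i, ← map_mul i, ← map_mul i, hi.eq_iff, hi.eq_iff, hi.eq_iff] at this
        rw [← map_inv, ← map_mul, ← map_mul]
        rcases this with e | e | e <;> rw [e]
        · exact hu
        · exact hv
        · rw [map_mul]; exact mul_mem hu hv
      refine (mem_normalizer_iff_map_eq _ _).2 (Subgroup.eq_of_le_of_card_ge ?_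
        (Subgroup.card_map_of_injective (MulEquiv.injective _)).ge)
      rintro _ ⟨u, hu, rfl⟩
      show toP x * u * (toP x)⁻¹ ∈ q.kleinV h2
      rcases eq_or_ne u 1 with rfl | hu1
      · simp
      rcases eq_or_ne u (q.ei h2) with rfl | hne
      · exact hstep _ (q.ej h2) hu (Or.inr (Or.inr (Or.inl rfl))) hu1 (q.ej_ne_one h2) (q.ei_ne_ej h2)
      · exact hstep _ (q.ei h2) hu (Or.inr (Or.inl rfl)) hu1 (q.ei_ne_one h2) hne
    have h12 := Subgroup.card_le_of_le (le_inf hfull le_rfl : pslImage F ≤ q.normV h2 ⊓ pslImage F)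
    rw [q.card_normV_inf h2 h.not_isSquare_two, ← hpsl] at h12
    have h1 := Fintype.one_lt_card (α := F)
    obtain ⟨m, hm⟩ := h.odd
    rw [hm] at hcard h1 ⊢
    by_contra hne
    have h2m : 2 ≤ m := by omega
    have h5 : (5 + 1) * (5 * 4) ≤ (2 * m + 1 + 1) * ((2 * m + 1) * (2 * m + 1 - 1)) :=
      Nat.mul_le_mul (by omega) (Nat.mul_le_mul (by omega) (by omega))
    omega

/-- For `q = 3` the group is `PSL₂(3)` itself. -/
theorem eq_top_of_three (hF : Fintype.card F = 3) : L = ⊤ := by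
  haveI := h.normal
  haveI : Fact (Nat.Prime 2) := ⟨Nat.prime_two⟩
  refine eq_top_iff.2 fun y _ => ?_
  have hfield : ∀ σ : F ≃+* F, σ = 1 := by
    intro σ
    classical
    have hu : (Finset.univ : Finset F) = {0, 1, -1} := by
      refine (Finset.eq_univ_of_card _ ?_).symm
      rw [hF]
      refine Finset.card_eq_three.2 ⟨0, 1, -1, zero_ne_one, ?_, ?_, rfl⟩
      · intro e; exact one_ne_zero (neg_eq_zero.1 e.symm)
      · intro e; exact h.two_ne_zero (by linear_combination e)
    refine RingEquiv.ext fun z => ?_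
    have hz := Finset.mem_univ z
    rw [hu] at hz
    simp only [Finset.mem_insert, Finset.mem_singleton] at hz
    rcases hz with rfl | rfl | rfl <;> simp
  obtain ⟨g, hg⟩ := mem_range_aut.2 (hfield (partHom (h.phi y)))
  have hsq : y * y ∈ L := h.mem_of_aut (g := g * g) (by rw [map_mul, map_mul, hg])
    (by rw [← pow_two]; exact Subgroup.sq_mem_of_index_two (index_pslImage_odd h.odd) g)
  have h1 : orderOf (QuotientGroup.mk' L y) ∣ 2 := orderOf_dvd_of_pow_eq_one (by
    rw [← map_pow, pow_two, QuotientGroup.mk'_apply, QuotientGroup.eq_one_iff]; exact hsq)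
  have h2 : ¬ 2 ∣ L.index := fun e => by
    obtain ⟨P⟩ : Nonempty (Sylow 2 Y) := inferInstance
    exact P.not_dvd_index' Subgroup.index_ne_zero_of_finite (e.trans (Subgroup.index_dvd_of_le (h.sylow_le P)))
  rcases (Nat.dvd_prime Nat.prime_two).1 h1 with e | e
  · exact (QuotientGroup.eq_one_iff y).1 (orderOf_eq_one_iff.1 e)
  · exact absurd (e ▸ orderOf_dvd_natCard (QuotientGroup.mk' L y)) h2

theorem card_of_three (hF : Fintype.card F = 3) : Nat.card Y = 12 := by
  have hcard := card_psl (F := F)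
  rw [hF, Nat.gcd_eq_left (by norm_num)] at hcard
  rw [← Subgroup.card_top, ← h.eq_top_of_three hF, Nat.card_congr h.e.toEquiv]
  omega

/-! ### Odd elements centralising involutions -/

theorem eq_one_of_three (hF : Fintype.card F = 3) {y e : Y} (hy : y ∈ L) (ho : Odd (orderOf y))
    (he : e * e = 1) (he1 : e ≠ 1) (hc : y * e = e * y) : y = 1 := by
  obtain ⟨P, a, b, r, haL, hbL, -, ha1, hb1, hne, ha, hb, hab, -, -, hiff, hcent⟩ := h.exists_sylow_four
  obtain ⟨g, hg, hge⟩ := h.exists_conj he he1 ha ha1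
  set x := g * y * g⁻¹ with hx
  have hxL : x ∈ L := mul_mem (mul_mem hg hy) (inv_mem hg)
  have hxo : Odd (orderOf x) := by rw [hx, ← MulAut.conj_apply, MulEquiv.orderOf_eq]; exact ho
  have hxa : x * a = a * x := by rw [hx, ← hge]; simpa [mul_assoc] using congrArg (fun z => g * z * g⁻¹) hc
  have hodd : ∀ z : Y, z ∈ L → Odd (orderOf z) → z * a = a * z → z * b = b * z → z = 1 := by
    intro z hzL hzo hza hzb
    have hz := hcent z (h.part_eq_one_of_mem hzL) hza hzb
    rw [← orderOf_eq_one_iff]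
    refine Nat.eq_one_of_dvd_coprimes (Nat.coprime_two_left.2 hzo) (orderOf_dvd_of_pow_eq_one ?_) dvd_rfl
    rw [pow_two]
    rcases (hiff z).1 hz with e | e | e | e <;> rw [e]
    · exact one_mul 1
    · exact ha
    · exact hb
    · rw [(show Commute b a from hab.symm).mul_mul_mul_comm a b, ha, hb, one_mul]
  have hx1 : x = 1 := by
    have hfixa : x * a * x⁻¹ = a := by rw [hxa, mul_inv_cancel_right]
    rcases h.normal_four_iff.1 hF x hxL b a hbL haL hb ha hab.symm hb1 ha1 hne.symm with e | e | e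
    · exact hodd x hxL hxo hxa (mul_inv_eq_iff_eq_mul.1 e)
    · refine absurd (MulAut.conj x |>.injective ?_) hne.symm
      rw [MulAut.conj_apply, MulAut.conj_apply, e, hfixa]
    · have h2 : x * x * b * (x * x)⁻¹ = b := by
        calc x * x * b * (x * x)⁻¹ = x * (x * b * x⁻¹) * x⁻¹ := by group
          _ = x * (b * a) * x⁻¹ := by rw [e]
          _ = (x * b * x⁻¹) * (x * a * x⁻¹) := by group
          _ = b := by rw [e, hfixa, mul_assoc, ha, mul_one]
      have hxx := hodd (x * x) (mul_mem hxL hxL)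
        (by rw [← pow_two]; exact hxo.of_dvd_nat (orderOf_pow_dvd 2))
        ((show Commute x a from hxa).mul_left hxa).eq (mul_inv_eq_iff_eq_mul.1 h2)
      rw [← orderOf_eq_one_iff]
      exact Nat.eq_one_of_dvd_coprimes (Nat.coprime_two_left.2 hxo)
        (orderOf_dvd_of_pow_eq_one (by rw [pow_two]; exact hxx)) dvd_rfl
  rwa [hx, conj_eq_one_iff] at hx1

/-- An involution commuting with a nontrivial odd element of `L` is unique; the other involutions
commuting with it invert that element. -/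
theorem torus_facts {y e : Y} (hy : y ∈ L) (hy1 : y ≠ 1) (ho : Odd (orderOf y))
    (he : e * e = 1) (he1 : e ≠ 1) (hc : y * e = e * y) :
    (∀ e' : Y, e' * e' = 1 → e' ≠ 1 → y * e' = e' * y → e' = e) ∧
      ∀ w : Y, w * w = 1 → w ≠ 1 → w * e = e * w → w ≠ e → w * y * w⁻¹ = y⁻¹ := by
  rcases lt_or_ge 3 (Fintype.card F) with h3 | h3
  · have hp := h.psl h3
    have heo : orderOf e = 2 := Involutions.orderOf_eq_two_iff_mul.2 ⟨he1, he⟩
    have hyt : y ∈ GW.Field.torus L e := (hp.mem_torus heo).2 ⟨hy, hc, ho⟩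
    exact ⟨fun e' he' he'1 hc' => hp.eq_of_commute_torus heo
      (Involutions.orderOf_eq_two_iff_mul.2 ⟨he'1, he'⟩) hyt hy1 hc', fun w hw hw1 hwc hwe =>
      hp.inverts_torus heo (Involutions.orderOf_eq_two_iff_mul.2 ⟨hw1, hw⟩) hwc hwe hyt⟩
  · exfalso
    refine hy1 (h.eq_one_of_three ?_ hy ho he he1 hc)
    obtain ⟨m, hm⟩ := h.odd
    have := Fintype.one_lt_card (α := F)
    omega

theorem eq_bot_of_odd {N : Subgroup Y} [hN : N.Normal] (ho : Odd (Nat.card N)) : N = ⊥ := by
  haveI := h.normal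
  obtain ⟨P, a, b, r, haL, hbL, -, ha1, hb1, hne, ha, hb, hab, -, -, hiff, hcent⟩ := h.exists_sylow_four
  have hodd : ∀ z ∈ N, z * z = 1 → z = 1 := fun z hz hzz => by
    rw [← orderOf_eq_one_iff]
    exact Nat.eq_one_of_dvd_coprimes (Nat.coprime_two_left.2 (ho.of_dvd_nat (Subgroup.orderOf_dvd_natCard _ hz)))
      (orderOf_dvd_of_pow_eq_one (by rw [pow_two]; exact hzz)) dvd_rfl
  have hNL : N ⊓ L = ⊥ := by
    rcases lt_or_ge 3 (Fintype.card F) with h3 | h3
    · haveI : IsSimpleGroup PSL := Matrix.ProjectiveSpecialLinearGroup.rank_two_simple (F := F)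
        (by rw [Nat.card_eq_fintype_card]; omega)
      haveI : Nontrivial L := h.e.toEquiv.nontrivial
      haveI : IsSimpleGroup L :=
        IsSimpleGroup.isSimpleGroup_of_surjective h.e.symm.toMonoidHom h.e.symm.surjective
      rcases IsSimpleGroup.eq_bot_or_eq_top_of_normal (N.subgroupOf L) inferInstance with e | e
      · rwa [Subgroup.subgroupOf_eq_bot, disjoint_iff] at e
      · exact absurd (hodd a (Subgroup.subgroupOf_eq_top.1 e haL) ha) ha1
    · refine (Subgroup.eq_bot_iff_forall _).2 fun y hy => ?_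
      have hF : Fintype.card F = 3 := by
        obtain ⟨m, hm⟩ := h.odd
        have := Fintype.one_lt_card (α := F)
        omega
      have hzN : y * a * y⁻¹ * a ∈ N := by
        rw [show y * a * y⁻¹ * a = y * (a * y⁻¹ * a⁻¹) from by
          rw [inv_eq_of_mul_eq_one_right ha]; group]
        exact mul_mem hy.1 (hN.conj_mem _ (inv_mem hy.1) a)
      rcases h.normal_four_iff.1 hF y hy.2 a b haL hbL ha hb hab ha1 hb1 hne with e | e | e
      · exact h.eq_one_of_three hF hy.2 (ho.of_dvd_nat (Subgroup.orderOf_dvd_natCard _ hy.1)) ha ha1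
          (mul_inv_eq_iff_eq_mul.1 e)
      · rw [e] at hzN
        refine absurd (hodd _ hzN ?_) fun e1 : b * a = 1 => hne ?_
        · rw [mul_assoc, ← mul_assoc a, hab, mul_assoc, ha, mul_one, hb]
        · rw [eq_inv_of_mul_eq_one_left e1, inv_eq_of_mul_eq_one_right ha]
      · rw [e, hab, mul_assoc, ha, mul_one] at hzN
        exact absurd (hodd _ hzN hb) hb1
  refine (Subgroup.eq_bot_iff_forall _).2 fun y hy => ?_
  have : y ∈ centralizer (L : Set Y) := mem_centralizer_iff.2 fun x hx => by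
    have hm : x * y * x⁻¹ * y⁻¹ ∈ N ⊓ L := by
      refine Subgroup.mem_inf.2 ⟨mul_mem (hN.conj_mem y hy x) (inv_mem hy), ?_⟩
      rw [show x * y * x⁻¹ * y⁻¹ = x * (y * x⁻¹ * y⁻¹) by group]
      exact mul_mem hx (h.normal.conj_mem _ (inv_mem hx) y)
    rw [hNL, Subgroup.mem_bot, mul_inv_eq_one, mul_inv_eq_iff_eq_mul] at hm
    exact hm
  rwa [h.cent, mem_bot] at this

end Over

end CfsgLib.AbelPSL
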