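import Cfsg.Agent.Lib.AbelPSL.Model
import Cfsg.Agent.Lib.Small.Basic
import Cfsg.Prelude.Def_TwoFusion

/-!
A group with commutative Sylow 2-subgroups and an involution `t` whose centraliser is `⟨t⟩ × E`,
`PSL₂(q) ≤ E ≤ Aut PSL₂(q)`: the Sylow 2-subgroup, fusion of `t` and pulled back torus facts.
-/

set_option autoImplicit false
set_option linter.unusedSectionVars false

open Subgroup

namespace CfsgLib.AbelPSL

open CfsgLib.GW.FieldModel
open scoped IsMulCommutative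

universe u

variable {G : Type u} [Group G]

/-- The hypotheses on `t`, `E` and `E₀`. -/
structure Setting (t : G) (E E₀ : Subgroup G) (F : Type*) [Field F] [Fintype F] : Prop where
  comm : ∀ P : Subgroup G, IsPGroup 2 P → ∀ x ∈ P, ∀ y ∈ P, x * y = y * x
  inv : orderOf t = 2
  prod : Cfsg.IsInternalDirectProduct (Subgroup.zpowers t) E (Subgroup.centralizer ({t} : Set G))
  le : E₀ ≤ E
  normal : (E₀.subgroupOf E).Normal
  equiv : Nonempty (E₀ ≃* Matrix.ProjectiveSpecialLinearGroup (Fin 2) F)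
  odd : Odd (Fintype.card F)
  cent : E ⊓ Subgroup.centralizer (E₀ : Set G) = ⊥

/-- The Sylow 2-subgroup `⟨t⟩ × ⟨a, b⟩` with a rotation `r` of the four group. -/
structure Frame (t : G) (E₀ : Subgroup G) (S : Sylow 2 G) (a b r : G) : Prop where
  ha : a ∈ E₀
  hb : b ∈ E₀
  hr : r ∈ E₀
  a1 : a ≠ 1
  b1 : b ≠ 1
  ne : a ≠ b
  aa : a * a = 1
  bb : b * b = 1
  ab : a * b = b * a
  ra : r * a * r⁻¹ = b
  rb : r * b * r⁻¹ = a * b
  mem_iff : ∀ x : G, x ∈ (S : Subgroup G) ↔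
    ∃ e, (e = 1 ∨ e = a ∨ e = b ∨ e = a * b) ∧ (x = e ∨ x = t * e)

variable [Finite G] {t : G} {E E₀ : Subgroup G} {F : Type*} [Field F] [Fintype F]

theorem comm_of_sylow (S : Sylow 2 G) (hS : IsMulCommutative (S : Subgroup G)) (P : Subgroup G)
    (hP : IsPGroup 2 P) : ∀ x ∈ P, ∀ y ∈ P, x * y = y * x := by
  have : Fact (Nat.Prime 2) := ⟨Nat.prime_two⟩
  obtain ⟨T, hT⟩ := hP.exists_le_sylow
  obtain ⟨g, rfl⟩ := MulAction.exists_smul_eq G S T
  intro x hx y hy
  obtain ⟨x', hx', rfl⟩ := hT hx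
  obtain ⟨y', hy', rfl⟩ := hT hy
  show g * x' * g⁻¹ * (g * y' * g⁻¹) = g * y' * g⁻¹ * (g * x' * g⁻¹)
  have h1 : x' * y' = y' * x' :=
    congrArg Subtype.val (hS.is_comm.comm (⟨x', hx'⟩ : (S : Subgroup G)) ⟨y', hy'⟩)
  calc g * x' * g⁻¹ * (g * y' * g⁻¹) = g * (x' * y') * g⁻¹ := by group
    _ = g * (y' * x') * g⁻¹ := by rw [h1]
    _ = g * y' * g⁻¹ * (g * x' * g⁻¹) := by group

namespace Setting

variable (h : Setting t E E₀ F)
include h

theorem t1 : t ≠ 1 := fun e => by simpa [e] using h.inv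

theorem tt : t * t = 1 := by rw [← pow_two, ← h.inv, pow_orderOf_eq_one]

theorem te {e : G} (he : e ∈ E) : t * e = e * t := h.prod.2.2.1 t (mem_zpowers t) e he

theorem mem_cent {x : G} : x ∈ centralizer ({t} : Set G) ↔ x * t = t * x :=
  mem_centralizer_singleton_iff

theorem E_le {e : G} (he : e ∈ E) : e ∈ centralizer ({t} : Set G) := h.prod.2.1 he

theorem t_notMem : t ∉ E := fun e => h.t1 (by
  have h1 : t ∈ zpowers t ⊓ E := mem_inf.2 ⟨mem_zpowers t, e⟩
  rwa [h.prod.2.2.2.1, mem_bot] at h1)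

/-- The elements of `C(t)`. -/
theorem cases_cent {x : G} (hx : x * t = t * x) : ∃ e ∈ E, x = e ∨ x = t * e := by
  let K : Subgroup G :=
    { carrier := {x | ∃ e ∈ E, x = e ∨ x = t * e}
      one_mem' := ⟨1, one_mem _, Or.inl rfl⟩
      mul_mem' := by
        rintro x y ⟨e, he, hx | hx⟩ ⟨f, hf, hy | hy⟩ <;> rw [hx, hy] <;>
          refine ⟨e * f, mul_mem he hf, ?_⟩
        · exact Or.inl rfl
        · exact Or.inr (by rw [← mul_assoc, ← h.te he, mul_assoc])
        · exact Or.inr (mul_assoc _ _ _)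
        · exact Or.inl (by rw [mul_assoc, ← mul_assoc e, ← h.te he, ← mul_assoc, ← mul_assoc, h.tt, one_mul])
      inv_mem' := by
        rintro x ⟨e, he, hx | hx⟩ <;> rw [hx] <;> refine ⟨e⁻¹, inv_mem he, ?_⟩
        · exact Or.inl rfl
        · exact Or.inr (by rw [_root_.mul_inv_rev, inv_eq_of_mul_eq_one_right h.tt, h.te (inv_mem he)]) }
  have hle : zpowers t ⊔ E ≤ K :=
    sup_le (zpowers_le.2 ⟨1, one_mem _, Or.inr (mul_one t).symm⟩) fun e he => ⟨e, he, Or.inl rfl⟩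
  rw [h.prod.2.2.2.2] at hle
  exact hle (h.mem_cent.2 hx)

theorem mem_of_odd {x : G} (hx : x * t = t * x) (ho : Odd (orderOf x)) : x ∈ E := by
  obtain ⟨e, he, rfl | rfl⟩ := h.cases_cent hx
  · exact he
  · exfalso
    obtain ⟨k, hk⟩ := ho
    refine h.t_notMem ?_
    have h1 : (t * e) ^ (2 * k + 1) = 1 := by rw [← hk, pow_orderOf_eq_one]
    rw [(show Commute t e from h.te he).mul_pow, pow_succ t, pow_mul, pow_two, h.tt, one_pow, one_mul,
      mul_eq_one_iff_eq_inv] at h1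
    rw [h1]
    exact inv_mem (pow_mem he _)

theorem conj_mem_E {x e : G} (hx : x * t = t * x) (he : e ∈ E) : x * e * x⁻¹ ∈ E := by
  obtain ⟨f, hf, rfl | rfl⟩ := h.cases_cent hx
  · exact mul_mem (mul_mem hf he) (inv_mem hf)
  · have h1 : f * e * f⁻¹ ∈ E := mul_mem (mul_mem hf he) (inv_mem hf)
    rw [show t * f * e * (t * f)⁻¹ = t * (f * e * f⁻¹) * t⁻¹ by group, h.te h1, mul_inv_cancel_right]
    exact h1

theorem conj_mem {x e : G} (hx : x * t = t * x) (he : e ∈ E₀) : x * e * x⁻¹ ∈ E₀ := by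
  have hE : ∀ f ∈ E, f * e * f⁻¹ ∈ E₀ := fun f hf =>
    h.normal.conj_mem ⟨e, h.le he⟩ he ⟨f, hf⟩
  obtain ⟨f, hf, rfl | rfl⟩ := h.cases_cent hx
  · exact hE _ hf
  · have h1 := hE f hf
    rw [show t * f * e * (t * f)⁻¹ = t * (f * e * f⁻¹) * t⁻¹ by group, h.te (h.le h1),
      mul_inv_cancel_right]
    exact h1

theorem overE : Over (E₀.subgroupOf E) F where
  normal := h.normal
  cent := by
    refine (eq_bot_iff_forall _).2 fun x hx => Subtype.ext ?_
    have h1 : (x : G) ∈ E ⊓ centralizer (E₀ : Set G) := mem_inf.2 ⟨x.2, mem_centralizer_iff.2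
      fun y hy => congrArg Subtype.val (mem_centralizer_iff.1 hx ⟨y, h.le hy⟩ hy)⟩
    rwa [h.cent, mem_bot] at h1
  equiv := h.equiv.map (Subgroup.subgroupOfEquivOfLe h.le).trans
  odd := h.odd
  comm P hP x hx y hy := Subtype.ext (h.comm (P.map E.subtype) (hP.map _) x ⟨x, hx, rfl⟩ y ⟨y, hy, rfl⟩)

theorem exists_frame : ∃ (S : Sylow 2 G) (a b r : G), Frame t E₀ S a b r := by
  haveI : Fact (Nat.Prime 2) := ⟨Nat.prime_two⟩
  obtain ⟨P, a, b, r, haL, hbL, hrL, ha1, hb1, hne, ha, hb, hab, hr1, hr2, hiff, hcent⟩ :=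
    h.overE.exists_sylow_four
  have hp : IsPGroup 2 (Subgroup.closure ({t, (a : G), (b : G)} : Set G)) := by
    refine DGroup.closure_isPGroup ?_ ?_
    · rintro x (rfl | rfl | rfl) y (rfl | rfl | rfl)
      exacts [rfl, h.te a.2, h.te b.2, (h.te a.2).symm, rfl, congrArg Subtype.val hab, (h.te b.2).symm,
        (congrArg Subtype.val hab).symm, rfl]
    · rintro x (rfl | rfl | rfl)
      exacts [h.tt, congrArg Subtype.val ha, congrArg Subtype.val hb]
  obtain ⟨S, hS⟩ := hp.exists_le_sylow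
  have htS : t ∈ (S : Subgroup G) := hS (subset_closure (by simp))
  have haS : (a : G) ∈ (S : Subgroup G) := hS (subset_closure (by simp))
  have hbS : (b : G) ∈ (S : Subgroup G) := hS (subset_closure (by simp))
  refine ⟨S, a, b, r, haL, hbL, hrL, fun e => ha1 (Subtype.ext e), fun e => hb1 (Subtype.ext e),
    fun e => hne (Subtype.ext e), congrArg Subtype.val ha, congrArg Subtype.val hb,
    congrArg Subtype.val hab, congrArg Subtype.val hr1, congrArg Subtype.val hr2, fun x => ⟨fun hx => ?_, ?_⟩⟩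
  · obtain ⟨e, he, hxe⟩ := h.cases_cent (h.comm _ S.isPGroup' x hx t htS)
    refine ⟨e, ?_, hxe⟩
    have heS : e ∈ (S : Subgroup G) := by
      rcases hxe with rfl | rfl
      · exact hx
      · exact (Subgroup.mul_mem_cancel_left _ htS).1 hx
    obtain ⟨k, hk⟩ := S.isPGroup' ⟨e, heS⟩
    have hmem := hcent ⟨e, he⟩ (h.overE.part_eq_one (k := k) (Subtype.ext (congrArg Subtype.val hk :)))
      (Subtype.ext (h.comm _ S.isPGroup' e heS a haS)) (Subtype.ext (h.comm _ S.isPGroup' e heS b hbS))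
    rcases (hiff _).1 hmem with e1 | e1 | e1 | e1
    · exact Or.inl (congrArg Subtype.val e1)
    · exact Or.inr (Or.inl (congrArg Subtype.val e1))
    · exact Or.inr (Or.inr (Or.inl (congrArg Subtype.val e1)))
    · exact Or.inr (Or.inr (Or.inr (congrArg Subtype.val e1)))
  · rintro ⟨e, he, hxe⟩
    have heS : e ∈ (S : Subgroup G) := by
      rcases he with rfl | rfl | rfl | rfl
      exacts [one_mem _, haS, hbS, mul_mem haS hbS]
    rcases hxe with rfl | rfl
    · exact heS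
    · exact mul_mem htS heS

/-! ### Torus facts in `C(t)` -/

theorem mem_E₀_of_involution {e : G} (he : e ∈ E) (hee : e * e = 1) : e ∈ E₀ :=
  h.overE.mem_of_involution (v := ⟨e, he⟩) (Subtype.ext hee)

/-- Involutions of `C(t)` other than `t`, modulo `t`. -/
theorem cases_involution {w : G} (hw : w * t = t * w) (hww : w * w = 1) :
    ∃ e ∈ E₀, e * e = 1 ∧ (w = e ∨ w = t * e) := by
  obtain ⟨e, he, hwe⟩ := h.cases_cent hw
  have hee : e * e = 1 := by
    rcases hwe with rfl | rfl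
    · exact hww
    · rwa [(show Commute e t from (h.te he).symm).mul_mul_mul_comm, h.tt, one_mul] at hww
  exact ⟨e, h.mem_E₀_of_involution he hee, hee, hwe⟩

theorem mem_E₀_of_inverted {y w : G} (hy : y * t = t * y) (ho : Odd (orderOf y))
    (hw : w * t = t * w) (hww : w * w = 1) (hi : w * y * w⁻¹ = y⁻¹) : y ∈ E₀ := by
  obtain ⟨e, he, -, hwe⟩ := h.cases_involution hw hww
  have hi' : e * y * e⁻¹ = y⁻¹ := by
    rcases hwe with rfl | rfl
    · exact hi
    · have hyE := h.mem_of_odd hy ho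
      have h1 : e * y * e⁻¹ ∈ E := mul_mem (mul_mem (h.le he) hyE) (inv_mem (h.le he))
      rw [show t * e * y * (t * e)⁻¹ = t * (e * y * e⁻¹) * t⁻¹ by group, h.te h1,
        mul_inv_cancel_right] at hi
      exact hi
  have h2 : y⁻¹ * y⁻¹ ∈ E₀ := by
    have h3 : e * (y * e⁻¹ * y⁻¹) ∈ E₀ := mul_mem he (h.conj_mem hy (inv_mem he))
    rwa [← mul_assoc, ← mul_assoc, hi'] at h3
  have h3 : y * y ∈ E₀ := by simpa [_root_.mul_inv_rev] using inv_mem h2
  obtain ⟨k, hk⟩ := ho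
  have h4 : y = (y * y) ^ (k + 1) := by
    rw [← pow_two, ← pow_mul, show 2 * (k + 1) = orderOf y + 1 by omega, pow_succ, pow_orderOf_eq_one,
      one_mul]
  rw [h4]
  exact pow_mem h3 _

/-- Everything in `C(t)` commuting with a nontrivial odd element of `E₀` commutes with the
involutions of `C(t)` commuting with it. -/
theorem commute_of_commute {y w x : G} (hy : y ∈ E₀) (hy1 : y ≠ 1) (ho : Odd (orderOf y))
    (hw : w * t = t * w) (hww : w * w = 1) (hwy : y * w = w * y)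
    (hx : x * t = t * x) (hxy : x * y = y * x) : x * w = w * x := by
  obtain ⟨e, he, hee, hwe⟩ := h.cases_involution hw hww
  have hye : y * e = e * y := by
    rcases hwe with rfl | rfl
    · exact hwy
    · rw [← mul_assoc, ← h.te (h.le hy), mul_assoc, mul_assoc] at hwy
      exact mul_left_cancel hwy
  have hxe : x * e = e * x := by
    by_cases he1 : e = 1
    · rw [he1, mul_one, one_mul]
    have hcE := h.conj_mem_E hx (h.le he)
    have h1 : x * e * x⁻¹ * (x * e * x⁻¹) = 1 := by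
      rw [show x * e * x⁻¹ * (x * e * x⁻¹) = x * (e * e) * x⁻¹ by group, hee, mul_one, mul_inv_cancel]
    have h2 : y * (x * e * x⁻¹) = x * e * x⁻¹ * y := by
      have c1 : Commute x y := hxy
      exact ((c1.symm.mul_right hye).mul_right c1.symm.inv_right).eq
    have key := (h.overE.torus_facts (y := ⟨y, h.le hy⟩) (e := ⟨e, h.le he⟩) hy
      (fun e => hy1 (congrArg Subtype.val e)) (by rwa [Subgroup.orderOf_mk]) (Subtype.ext hee)
      (fun e => he1 (congrArg Subtype.val e)) (Subtype.ext hye)).1 ⟨_, hcE⟩ (Subtype.ext h1)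
      (fun e => he1 (conj_eq_one_iff.1 (congrArg Subtype.val e))) (Subtype.ext h2)
    exact mul_inv_eq_iff_eq_mul.1 (congrArg Subtype.val key)
  rcases hwe with rfl | rfl
  · exact hxe
  · rw [← mul_assoc, hx, mul_assoc, hxe, mul_assoc]

/-- If some involution of `E₀` centralises a nontrivial odd element, so does each, and the commuting
ones invert it. -/
theorem exists_odd {y e a b : G} (hy : y ∈ E₀) (hy1 : y ≠ 1) (ho : Odd (orderOf y)) (he : e ∈ E₀)
    (hee : e * e = 1) (he1 : e ≠ 1) (hye : y * e = e * y) (ha : a ∈ E₀) (haa : a * a = 1) (ha1 : a ≠ 1)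
    (hb : b ∈ E₀) (hbb : b * b = 1) (hb1 : b ≠ 1) (hne : b ≠ a) (hab : b * a = a * b) :
    ∃ z ∈ E₀, z ≠ 1 ∧ Odd (orderOf z) ∧ z * a = a * z ∧ b * z * b⁻¹ = z⁻¹ := by
  obtain ⟨g, hg, hge⟩ := h.overE.exists_conj (v := ⟨e, h.le he⟩) (w := ⟨a, h.le ha⟩) (Subtype.ext hee)
    (fun e => he1 (congrArg Subtype.val e)) (Subtype.ext haa) (fun e => ha1 (congrArg Subtype.val e))
  have hge' : (g : G) * e * (g : G)⁻¹ = a := congrArg Subtype.val hge
  set z := (g : G) * y * (g : G)⁻¹ with hz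
  have hzE : z ∈ E₀ := mul_mem (mul_mem hg hy) (inv_mem hg)
  have hz1 : z ≠ 1 := fun e => hy1 (conj_eq_one_iff.1 e)
  have hzo : Odd (orderOf z) := by rw [hz, ← MulAut.conj_apply, MulEquiv.orderOf_eq]; exact ho
  have hza : z * a = a * z := by
    rw [hz, ← hge']
    simpa [mul_assoc] using congrArg (fun x => (g : G) * x * (g : G)⁻¹) hye
  refine ⟨z, hzE, hz1, hzo, hza, ?_⟩
  exact congrArg Subtype.val ((h.overE.torus_facts (y := ⟨z, h.le hzE⟩) (e := ⟨a, h.le ha⟩) hzE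
    (fun e => hz1 (congrArg Subtype.val e)) (by rwa [Subgroup.orderOf_mk]) (Subtype.ext haa)
    (fun e => ha1 (congrArg Subtype.val e)) (Subtype.ext hza)).2 ⟨b, h.le hb⟩ (Subtype.ext hbb)
    (fun e => hb1 (congrArg Subtype.val e)) (Subtype.ext hab) (fun e => hne (congrArg Subtype.val e)))

/-- `C(t)` has no normal subgroup of odd order. -/
theorem eq_bot_of_odd {N : Subgroup G} (hN : ∀ x ∈ N, x * t = t * x) (ho : Odd (Nat.card N))
    (hn : ∀ e ∈ E, ∀ x ∈ N, e * x * e⁻¹ ∈ N) : N = ⊥ := by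
  have hNE : N ≤ E := fun x hx => h.mem_of_odd (hN x hx) (ho.of_dvd_nat (orderOf_dvd_natCard _ hx))
  haveI : (N.subgroupOf E).Normal := ⟨fun x hx g => hn g g.2 x hx⟩
  have h1 := h.overE.eq_bot_of_odd (N := N.subgroupOf E)
    (by rwa [Nat.card_congr (Subgroup.subgroupOfEquivOfLe hNE).toEquiv])
  rw [subgroupOf_eq_bot, disjoint_iff, inf_eq_left.2 hNE] at h1
  exact h1

/-! ### Fusion -/

theorem r_comm {S : Sylow 2 G} {a b r : G} (f : Frame t E₀ S a b r) : r * t = t * r :=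
  (h.te (h.le f.hr)).symm

theorem t_mem {S : Sylow 2 G} {a b r : G} (f : Frame t E₀ S a b r) : t ∈ (S : Subgroup G) :=
  (f.mem_iff t).2 ⟨1, Or.inl rfl, Or.inr (mul_one t).symm⟩

/-- If `t` has another conjugate in `S` under `H ≥ C(t)` then all involutions of `S` are. -/
theorem fusion {S : Sylow 2 G} {a b r : G} (f : Frame t E₀ S a b r) {H : Subgroup G}
    (hH : centralizer ({t} : Set G) ≤ H)
    (hx : ∃ g ∈ H, g * t * g⁻¹ ∈ (S : Subgroup G) ∧ g * t * g⁻¹ ≠ t) :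
    ∀ v ∈ (S : Subgroup G), v ≠ 1 → ∃ g ∈ H, g * t * g⁻¹ = v := by
  haveI : Fact (Nat.Prime 2) := ⟨Nat.prime_two⟩
  obtain ⟨g, hg, hgS, hgne⟩ := hx
  have htS := h.t_mem f
  have hSC : ∀ x ∈ (S : Subgroup G), x * t = t * x := fun x hx => h.comm _ S.isPGroup' x hx t htS
  have hSH : (S : Subgroup G) ≤ H := fun x hx => hH (h.mem_cent.2 (hSC x hx))
  haveI : IsMulCommutative (S.subtype hSH : Subgroup H) :=
    ⟨⟨fun x y => Subtype.ext (Subtype.ext (h.comm _ S.isPGroup' _ x.2 _ y.2))⟩⟩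
  obtain ⟨n, hn, hne⟩ := (S.subtype hSH).conj_eq_normalizer_conj_of_mem ⟨t, hSH htS⟩ ⟨g, hg⟩⁻¹ htS
    (show ((⟨g, hg⟩⁻¹ : H) : G)⁻¹ * t * (⟨g, hg⟩⁻¹ : H) ∈ (S : Subgroup G) by simpa using hgS)
  have hne' : g * t * g⁻¹ = (n : G)⁻¹ * t * n := by simpa using congrArg Subtype.val hne
  have hnS : (n : G)⁻¹ ∈ H ∧ ∀ x, x ∈ (S : Subgroup G) → (n : G)⁻¹ * x * n ∈ (S : Subgroup G) :=
    ⟨inv_mem n.2, fun x hx => by
      have := (Subgroup.mem_normalizer_iff''.1 hn ⟨x, hSH hx⟩).1 hx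
      exact this⟩
  let M : Subgroup G := H ⊓ normalizer ((S : Subgroup G) : Set G)
  have hnM : (n : G)⁻¹ ∈ M := by
    refine mem_inf.2 ⟨hnS.1, mem_normalizer_iff.2 fun x => ⟨fun hx => by simpa using hnS.2 x hx, fun hx => ?_⟩⟩
    have := (Subgroup.mem_normalizer_iff''.1 (inv_mem hn) ⟨(n : G)⁻¹ * x * n, hSH (by simpa using hx)⟩).1
      (show (n : G)⁻¹ * x * n ∈ (S : Subgroup G) by simpa using hx)
    have : ((n⁻¹ : H) : G)⁻¹ * ((n : G)⁻¹ * x * n) * ((n⁻¹ : H) : G) ∈ (S : Subgroup G) := this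
    simpa [mul_assoc] using this
  have hrS : ∀ x, x ∈ (S : Subgroup G) → r * x * r⁻¹ ∈ (S : Subgroup G) := by
    intro x hx
    obtain ⟨e, he, hxe⟩ := (f.mem_iff x).1 hx
    refine (f.mem_iff _).2 ⟨r * e * r⁻¹, ?_, ?_⟩
    · rcases he with rfl | rfl | rfl | rfl
      · simp
      · exact Or.inr (Or.inr (Or.inl f.ra))
      · exact Or.inr (Or.inr (Or.inr f.rb))
      · refine Or.inr (Or.inl ?_)
        rw [show r * (a * b) * r⁻¹ = (r * a * r⁻¹) * (r * b * r⁻¹) by group, f.ra, f.rb, f.ab,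
          ← mul_assoc, f.bb, one_mul]
    · rcases hxe with rfl | rfl
      · exact Or.inl rfl
      · refine Or.inr ?_
        rw [show r * (t * e) * r⁻¹ = (r * t) * e * r⁻¹ by group, h.r_comm f]
        group
  have hrM : r ∈ M := by
    refine mem_inf.2 ⟨hH (h.E_le (h.le f.hr)), ?_⟩
    rw [CfsgLib.PSL2.mem_normalizer_iff_map_eq]
    refine Subgroup.eq_of_le_of_card_ge ?_ (Subgroup.card_map_of_injective (MulEquiv.injective _)).ge
    rintro _ ⟨x, hx, rfl⟩
    exact hrS x hx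
  -- the orbit of `t` under `M`
  letI : MulAction M G := MulAction.compHom G (MulAut.conj.comp M.subtype)
  have hact : ∀ (m : M) (x : G), m • x = (m : G) * x * (m : G)⁻¹ := fun m x => rfl
  set O := MulAction.orbit M t with hO
  have hodd : Odd O.ncard := by
    rw [hO, ← MulAction.index_stabilizer]
    have hle : (S : Subgroup G).subgroupOf M ≤ MulAction.stabilizer M t := fun m hm => by
      rw [MulAction.mem_stabilizer_iff, hact, (hSC _ hm : (m : G) * t = t * m), mul_inv_cancel_right]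
    have hSM : (S : Subgroup G) ≤ M := le_inf hSH le_normalizer
    refine Odd.of_dvd_nat ?_ (Subgroup.index_dvd_of_le hle)
    refine Odd.of_dvd_nat (Nat.not_even_iff_odd.1 fun e => S.not_dvd_index (even_iff_two_dvd.1 e)) ?_
    exact Subgroup.relIndex_dvd_index_of_le hSM
  have hOS : ∀ v ∈ O, v ∈ (S : Subgroup G) ∧ v ≠ 1 := by
    rintro v ⟨m, rfl⟩
    show m • t ∈ (S : Subgroup G) ∧ m • t ≠ 1
    rw [hact]
    exact ⟨(mem_normalizer_iff.1 (mem_inf.1 m.2).2 t).1 htS, fun e => h.t1 (conj_eq_one_iff.1 e)⟩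
  have hOr : ∀ v ∈ O, r * v * r⁻¹ ∈ O := fun v hv =>
    hact ⟨r, hrM⟩ v ▸ MulAction.mem_orbit_of_mem_orbit (⟨r, hrM⟩ : M) hv
  have htO : t ∈ O := MulAction.mem_orbit_self t
  have hxO : g * t * g⁻¹ ∈ O := ⟨⟨_, hnM⟩, by
    show (⟨_, hnM⟩ : M) • t = _
    rw [hact, hne', inv_inv]⟩
  -- the two triangles
  have r3 : r * (a * b) * r⁻¹ = a := by
    rw [show r * (a * b) * r⁻¹ = (r * a * r⁻¹) * (r * b * r⁻¹) by group, f.ra, f.rb, f.ab, ← mul_assoc,
      f.bb, one_mul]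
  have rt : ∀ e, r * (t * e) * r⁻¹ = t * (r * e * r⁻¹) := fun e => by
    rw [show r * (t * e) * r⁻¹ = (r * t) * e * r⁻¹ by group, h.r_comm f]
    group
  have tri1 : ∀ e, (e = a ∨ e = b ∨ e = a * b) → e ∈ O → a ∈ O ∧ b ∈ O ∧ a * b ∈ O := by
    intro e he heO
    have h1 := hOr _ heO
    have h2 := hOr _ h1
    rcases he with rfl | rfl | rfl
    · rw [f.ra] at h1 h2; rw [f.rb] at h2; exact ⟨heO, h1, h2⟩
    · rw [f.rb] at h1 h2; rw [r3] at h2; exact ⟨h2, heO, h1⟩
    · rw [r3] at h1 h2; rw [f.ra] at h2; exact ⟨h1, h2, heO⟩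
  have tri2 : ∀ e, (e = a ∨ e = b ∨ e = a * b) → t * e ∈ O →
      t * a ∈ O ∧ t * b ∈ O ∧ t * (a * b) ∈ O := by
    intro e he heO
    have h1 := hOr _ heO
    have h2 := hOr _ h1
    rcases he with rfl | rfl | rfl
    · rw [rt, f.ra] at h1 h2; rw [rt, f.rb] at h2; exact ⟨heO, h1, h2⟩
    · rw [rt, f.rb] at h1 h2; rw [rt, r3] at h2; exact ⟨h2, heO, h1⟩
    · rw [rt, r3] at h1 h2; rw [rt, f.ra] at h2; exact ⟨h1, h2, heO⟩
  have hform : ∀ v ∈ O, v = t ∨ (∃ e, (e = a ∨ e = b ∨ e = a * b) ∧ v = e) ∨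
      ∃ e, (e = a ∨ e = b ∨ e = a * b) ∧ v = t * e := by
    intro v hv
    obtain ⟨hvS, hv1⟩ := hOS v hv
    obtain ⟨e, he, hve⟩ := (f.mem_iff v).1 hvS
    rcases he with rfl | he
    · rcases hve with e | e
      · exact absurd e hv1
      · exact Or.inl (by rw [e, mul_one])
    · exact hve.elim (fun e1 => Or.inr (Or.inl ⟨e, he, e1⟩)) fun e1 => Or.inr (Or.inr ⟨e, he, e1⟩)
  have hab1 : a * b ≠ 1 := fun e => f.ne (by
    rw [← inv_eq_of_mul_eq_one_right e, inv_eq_of_mul_eq_one_right f.aa])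
  have hane : a ≠ a * b := fun e => f.b1 (left_eq_mul.1 e)
  have hbne : b ≠ a * b := fun e => f.a1 (right_eq_mul.1 e)
  have hat : ∀ e ∈ E₀, t ≠ e := fun e he e' => h.t_notMem (e' ▸ h.le he)
  have card4 : ∀ x y z : G, x ≠ y → x ≠ z → y ≠ z → t ≠ x → t ≠ y → t ≠ z →
      Even ({t, x, y, z} : Set G).ncard := by
    intro x y z h1 h2 h3 h4 h5 h6
    rw [Set.ncard_insert_of_notMem (by simp [h4, h5, h6]), Set.ncard_insert_of_notMem (by simp [h1, h2]),
      Set.ncard_pair h3]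
    decide
  have all : (a ∈ O ∧ b ∈ O ∧ a * b ∈ O) ∧ (t * a ∈ O ∧ t * b ∈ O ∧ t * (a * b) ∈ O) := by
    by_cases hA : ∃ e, (e = a ∨ e = b ∨ e = a * b) ∧ e ∈ O
    · obtain ⟨e, he, heO⟩ := hA
      refine ⟨tri1 e he heO, ?_⟩
      by_contra hB
      have hOeq : O = {t, a, b, a * b} := by
        refine Set.Subset.antisymm (fun v hv => ?_) ?_
        · rcases hform v hv with e1 | ⟨e', he', e1⟩ | ⟨e', he', e1⟩
          · exact Or.inl e1
          · subst e1; exact Or.inr he'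
          · exact absurd (tri2 e' he' (e1 ▸ hv)) hB
        · obtain ⟨o1, o2, o3⟩ := tri1 e he heO
          rintro v (rfl | rfl | rfl | rfl) <;> assumption
      rw [hOeq] at hodd
      exact Nat.not_even_iff_odd.2 hodd (card4 a b (a * b) f.ne hane hbne (hat a f.ha) (hat b f.hb)
        (hat _ (mul_mem f.ha f.hb)))
    · have hB : ∃ e, (e = a ∨ e = b ∨ e = a * b) ∧ t * e ∈ O := by
        rcases hform _ hxO with e1 | ⟨e', he', e1⟩ | ⟨e', he', e1⟩
        · exact absurd e1 hgne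
        · exact absurd ⟨e', he', e1 ▸ hxO⟩ hA
        · exact ⟨e', he', e1 ▸ hxO⟩
      obtain ⟨e, he, heO⟩ := hB
      exfalso
      obtain ⟨o1, o2, o3⟩ := tri2 e he heO
      have hOeq : O = {t, t * a, t * b, t * (a * b)} := by
        refine Set.Subset.antisymm (fun v hv => ?_) ?_
        · rcases hform v hv with e1 | ⟨e', he', e1⟩ | ⟨e', he', e1⟩
          · exact Or.inl e1
          · exact absurd ⟨e', he', e1 ▸ hv⟩ hA
          · subst e1
            rcases he' with rfl | rfl | rfl <;> simp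
        · rintro v (rfl | rfl | rfl | rfl) <;> assumption
      rw [hOeq] at hodd
      exact Nat.not_even_iff_odd.2 hodd (card4 _ _ _ (fun e => f.ne (mul_left_cancel e))
        (fun e => hane (mul_left_cancel e)) (fun e => hbne (mul_left_cancel e))
        (fun e => f.a1 (left_eq_mul.1 e)) (fun e => f.b1 (left_eq_mul.1 e))
        (fun e => hab1 (left_eq_mul.1 e)))
  intro v hv hv1
  have hvO : v ∈ O := by
    obtain ⟨e, he, hve⟩ := (f.mem_iff v).1 hv
    rcases hve with rfl | rfl <;> rcases he with rfl | rfl | rfl | rfl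
    exacts [absurd rfl hv1, all.1.1, all.1.2.1, all.1.2.2, by rwa [mul_one], all.2.1, all.2.2.1, all.2.2.2]
  obtain ⟨m, rfl⟩ := hvO
  exact ⟨m, (mem_inf.1 m.2).1, (hact m t).symm⟩

/-- In a non-abelian simple group all involutions are conjugate to `t`. -/
theorem exists_conj [IsSimpleGroup G] (hna : ¬ IsMulCommutative G) {v : G} (hv : v * v = 1) (hv1 : v ≠ 1) :
    ∃ g : G, g * t * g⁻¹ = v := by
  haveI : Fact (Nat.Prime 2) := ⟨Nat.prime_two⟩
  obtain ⟨S, a, b, r, f⟩ := h.exists_frame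
  have htS := h.t_mem f
  have key : ∃ g ∈ (⊤ : Subgroup G), g * t * g⁻¹ ∈ (S : Subgroup G) ∧ g * t * g⁻¹ ≠ t := by
    by_contra hno
    haveI : IsMulCommutative (S : Subgroup G) :=
      ⟨⟨fun x y => Subtype.ext (h.comm _ S.isPGroup' _ x.2 _ y.2)⟩⟩
    have hk : ∀ (k : ℕ) (g₀ : G), g₀⁻¹ * t ^ k * g₀ ∈ (S : Subgroup G) → g₀⁻¹ * t ^ k * g₀ = t ^ k := by
      intro k g₀ hk
      rcases Nat.even_or_odd k with ⟨m, rfl⟩ | ⟨m, rfl⟩
      · rw [← two_mul, pow_mul, pow_two, h.tt, one_pow]; simp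
      · rw [pow_succ, pow_mul, pow_two, h.tt, one_pow, one_mul] at hk ⊢
        by_contra hne
        exact hno ⟨g₀⁻¹, trivial, by simpa using hk, by simpa using hne⟩
    have h1 := MonoidHom.transfer_eq_pow (MonoidHom.id (S : Subgroup G)) t hk
    rw [CfsgLib.Small.hom_comm_eq_one hna] at h1
    obtain ⟨m, hm⟩ : Odd (S : Subgroup G).index :=
      Nat.not_even_iff_odd.1 fun e => S.not_dvd_index (even_iff_two_dvd.1 e)
    have h2 : t ^ (S : Subgroup G).index = 1 := (congrArg Subtype.val h1).symm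
    rw [hm, pow_succ, pow_mul, pow_two, h.tt, one_pow, one_mul] at h2
    exact h.t1 h2
  have hp : IsPGroup 2 (Subgroup.closure ({v} : Set G)) :=
    DGroup.closure_isPGroup (by rintro x rfl y rfl; rfl) (by rintro x rfl; exact hv)
  obtain ⟨T, hT⟩ := hp.exists_le_sylow
  obtain ⟨g, rfl⟩ := MulAction.exists_smul_eq G S T
  obtain ⟨w, hw, hwv⟩ := hT (subset_closure rfl)
  have hwv' : g * w * g⁻¹ = v := hwv
  obtain ⟨k, -, rfl⟩ := h.fusion f le_top key w hw (fun e => hv1 (by rw [← hwv', e]; group))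
  exact ⟨g * k, by rw [← hwv']; group⟩

end Setting

end CfsgLib.AbelPSL
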